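import Cfsg.Agent.Blocks.NormalDefect.Derivation
import Cfsg.Agent.BlockChar.Cyclic.Rank1
import Cfsg.Agent.BlockChar.Cyclic.Embed
import Cfsg.Agent.BlockThms.DefectZero

/-!
# Reduced idempotents of sets of characters

The image in a quotient of the idempotent of a set of characters, the dimensions of the algebra
and of the centre it cuts out, and matrix units for a set of characters of defect zero of one
degree.
-/

set_option autoImplicit false

namespace Cfsg.Agent.Blocks.NormalDefect

open scoped ComplexConjugate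
open Module Cfsg.Agent Cfsg.Agent.Blocks Cfsg.Agent.BlockChar.ResidueBlock
open Cfsg.Agent.BlockChar.Cyclic (bElt bElt_central bElt_idem res_zero centerSpace groupSum
  groupSum_eq groupSum_apply conjRep rad_eq_zero exists_point exists_trace_root
  exists_smul_eq_end res_central resFun_zero')

universe u

attribute [local instance] Ideal.Quotient.field

set_option synthInstance.maxHeartbeats 400000
set_option maxHeartbeats 4000000

variable {G : Type u} [Group G] {p : ℕ} {M : Ideal Cfsg.AlgInt}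

local notation "𝕜" => Cfsg.AlgInt ⧸ M

/-- The characters of the quotient inflating into `B`. -/
def inflSet (N : Subgroup G) [N.Normal] [Finite G] (B : Set (Cfsg.IrrCharacter G)) :
    Set (Cfsg.IrrCharacter (G ⧸ N)) :=
  {θ | (⟨(θ : G ⧸ N → ℂ) ∘ QuotientGroup.mk, Char.isIrrCharacter_mk N θ.2⟩ :
    Cfsg.IrrCharacter G) ∈ B}

theorem push_blockCoeff [Fintype G] (N : Subgroup G) [N.Normal]
    (B : Set (Cfsg.IrrCharacter G)) :
    BlockThms.push N (Cfsg.blockCoeff B) = Cfsg.blockCoeff (inflSet N B) := by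
  classical
  have := Fintype.ofFinite (G ⧸ N)
  refine classFun_ext_omega (BlockThms.isClassFunction_push N (isClassFunction_blockCoeff B))
    (isClassFunction_blockCoeff _) fun θ => ?_
  rw [← BlockThms.omega_comp_mk, omega_blockCoeff]
  exact (omega_blockCoeff B (⟨(θ : G ⧸ N → ℂ) ∘ QuotientGroup.mk, Char.isIrrCharacter_mk N θ.2⟩ :
    Cfsg.IrrCharacter G)).trans (if_congr Iff.rfl rfl rfl)

theorem memLocalRing_inflSet [Fintype G] (hM : Cfsg.IsPModular p M) (N : Subgroup G) [N.Normal]
    {B : Set (Cfsg.IrrCharacter G)} (hB : ∀ g, Cfsg.MemLocalRing M (Cfsg.blockCoeff B g))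
    (q : G ⧸ N) : Cfsg.MemLocalRing M (Cfsg.blockCoeff (inflSet N B) q) :=
  push_blockCoeff N B ▸ BlockThms.memLocalRing_push N hM hB q

variable [M.IsMaximal] (hM : Cfsg.IsPModular p M)
include hM

theorem mapAlg_res [Fintype G] (N : Subgroup G) [N.Normal] [Fintype (G ⧸ N)] {f : G → ℂ}
    (hf : ∀ g, Cfsg.MemLocalRing M (f g)) :
    mapAlg 𝕜 (QuotientGroup.mk' N) (res hM f) = res hM (BlockThms.push N f) := by
  classical
  refine MonoidAlgebra.coeff_injective (Finsupp.ext fun q => ?_)
  rw [coeff_mapAlg, coeff_res, BlockThms.push, BlockThms.OrderP.resFun_sum hM _ fun g _ => by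
    split_ifs
    · exact hf g
    · exact (localRing hM).zero_mem]
  refine Finset.sum_congr rfl fun g _ => ?_
  rw [coeff_res]
  by_cases h : (g : G ⧸ N) = q
  · rw [if_pos h, if_pos (show QuotientGroup.mk' N g = q from h)]
  · rw [if_neg h, if_neg (show ¬ QuotientGroup.mk' N g = q from h),
      resFun_zero' hM]

theorem res_add [Fintype G] {f f' : G → ℂ} (hf : ∀ g, Cfsg.MemLocalRing M (f g))
    (hf' : ∀ g, Cfsg.MemLocalRing M (f' g)) :
    res hM (f + f') = res hM f + res hM f' := by
  refine MonoidAlgebra.coeff_injective (Finsupp.ext fun g => ?_)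
  rw [MonoidAlgebra.coeff_add, Finsupp.add_apply, coeff_res, coeff_res, coeff_res, Pi.add_apply,
    resFun_add hM (hf g) (hf' g)]

variable [Fintype G] {S : Set (Cfsg.IrrCharacter G)}
  (hS : ∀ g, Cfsg.MemLocalRing M (Cfsg.blockCoeff S g))
include hS

theorem memLocalRing_compl (g : G) : Cfsg.MemLocalRing M (Cfsg.blockCoeff Sᶜ g) := by
  classical
  have h : Cfsg.blockCoeff Sᶜ = delta G - Cfsg.blockCoeff S := by
    refine classFun_ext_omega (isClassFunction_blockCoeff _) (fun x c => by
      simp only [Pi.sub_apply, isClassFunction_delta x c, isClassFunction_blockCoeff S x c])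
      fun χ => ?_
    rw [omega_sub, omega_delta (Char.IsIrr.one_ne_zero χ.2), omega_blockCoeff, omega_blockCoeff]
    by_cases hχ : χ ∈ S <;> simp [hχ]
  rw [h, Pi.sub_apply]
  refine (localRing hM).sub_mem ?_ (hS g)
  rw [delta]
  split_ifs
  · exact (localRing hM).one_mem
  · exact (localRing hM).zero_mem

theorem bElt_idem_set : bElt hM S * bElt hM S = bElt hM S := by
  rw [bElt, ← res_conv hM hS hS, blockCoeff_conv]

theorem bElt_add_compl : bElt hM S + bElt hM Sᶜ = 1 := by
  classical
  rw [bElt, bElt, ← res_add hM hS (memLocalRing_compl hM hS)]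
  have h : Cfsg.blockCoeff S + Cfsg.blockCoeff Sᶜ = delta G := by
    refine classFun_ext_omega (fun x c => by
      simp only [Pi.add_apply, isClassFunction_blockCoeff _ x c]) isClassFunction_delta fun χ => ?_
    rw [omega_add, omega_delta (Char.IsIrr.one_ne_zero χ.2), omega_blockCoeff, omega_blockCoeff]
    by_cases hχ : χ ∈ S <;> simp [hχ]
  rw [h]
  refine MonoidAlgebra.coeff_injective (Finsupp.ext fun g => ?_)
  rw [coeff_res, MonoidAlgebra.one_def, delta]
  by_cases hg : g = 1
  · subst hg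
    rw [if_pos rfl]
    simp only [MonoidAlgebra.coeff_single, Finsupp.single_eq_same]
    simpa using resFun_coe hM (1 : Cfsg.AlgInt)
  · rw [if_neg hg, resFun_zero' hM]
    simp [hg]

theorem finrank_range_le_sum :
    finrank 𝕜 (LinearMap.range (LinearMap.mulLeft 𝕜 (bElt hM S))) ≤
      ∑ χ ∈ S.toFinite.toFinset, Cfsg.charDegree (χ : G → ℂ) ^ 2 := by
  classical
  set a := Cfsg.blockCoeff S with ha
  set P := convMap a with hP
  have hPP : ∀ f, P (P f) = P f := fun f => by
    show conv a (conv a f) = conv a f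
    rw [conv_assoc, ha, blockCoeff_conv]
  have hproj : LinearMap.IsProj (LinearMap.range P) P :=
    ⟨fun f => ⟨f, rfl⟩, fun f ⟨f', hf'⟩ => by rw [← hf', hPP]⟩
  have hDsum : finrank ℂ (LinearMap.range P) =
      ∑ χ ∈ S.toFinite.toFinset, Cfsg.charDegree (χ : G → ℂ) ^ 2 := by
    have h1 := hproj.trace
    rw [hP, trace_convMap, ha, Cfsg.blockCoeff, finsum_mem_eq_finite_toFinset_sum _ S.toFinite,
      ← mul_assoc, mul_inv_cancel₀ (Nat.cast_ne_zero.2 Nat.card_pos.ne'), one_mul] at h1
    have h2 : ∀ χ : Cfsg.IrrCharacter G, (χ : G → ℂ) 1 * conj ((χ : G → ℂ) 1) =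
        ((Cfsg.charDegree (χ : G → ℂ) ^ 2 : ℕ) : ℂ) := fun χ => by
      rw [(CharArith.irr_degree_spec χ).1, Complex.conj_natCast, Nat.cast_pow, sq]
    simp only [h2, ← Nat.cast_sum] at h1
    rw [hP]
    exact_mod_cast h1.symm
  rw [← hDsum]
  refine finrank_le_of_lifts hM _ _ ?_
  rintro _ ⟨y, rfl⟩
  refine ⟨conv a (lift y), ⟨lift y, rfl⟩, memLocalRing_conv hM hS (memLocalRing_lift hM y),
    fun g => ?_⟩
  rw [← coeff_res, res_conv hM hS (memLocalRing_lift hM y), res_lift]
  rfl

theorem le_finrank_range :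
    ∑ χ ∈ S.toFinite.toFinset, Cfsg.charDegree (χ : G → ℂ) ^ 2 ≤
      finrank 𝕜 (LinearMap.range (LinearMap.mulLeft 𝕜 (bElt hM S))) := by
  classical
  have hle := finrank_range_le_sum hM (memLocalRing_compl hM hS)
  have htot : ∑ χ ∈ S.toFinite.toFinset, Cfsg.charDegree (χ : G → ℂ) ^ 2 +
      ∑ χ ∈ Sᶜ.toFinite.toFinset, Cfsg.charDegree (χ : G → ℂ) ^ 2 = Nat.card G := by
    rw [← Finset.sum_union (by
      rw [Finset.disjoint_left]
      intro χ h h'
      exact (Sᶜ.toFinite.mem_toFinset.1 h') (S.toFinite.mem_toFinset.1 h))]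
    have hu : S.toFinite.toFinset ∪ Sᶜ.toFinite.toFinset = Finset.univ := by
      ext χ; simp [em]
    rw [hu]
    have h := Char.regular_eq_sum (1 : G)
    rw [if_pos rfl] at h
    have h2 : ((∑ χ : Cfsg.IrrCharacter G, Cfsg.charDegree (χ : G → ℂ) ^ 2 : ℕ) : ℂ) =
        (Nat.card G : ℂ) := by
      rw [← h, Nat.cast_sum]
      exact Finset.sum_congr rfl fun χ _ => by
        rw [(CharArith.irr_degree_spec χ).1, Nat.cast_pow, sq]
    exact_mod_cast h2
  have hsup : (⊤ : Submodule 𝕜 (MonoidAlgebra 𝕜 G)) ≤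
      LinearMap.range (LinearMap.mulLeft 𝕜 (bElt hM S)) ⊔
        LinearMap.range (LinearMap.mulLeft 𝕜 (bElt hM Sᶜ)) := fun x _ =>
    Submodule.mem_sup.2 ⟨_, ⟨x, rfl⟩, _, ⟨x, rfl⟩, by
      simp only [LinearMap.mulLeft_apply]
      rw [← add_mul, bElt_add_compl hM hS, one_mul]⟩
  have hfd : FiniteDimensional 𝕜 (MonoidAlgebra 𝕜 G) :=
    Module.Finite.of_basis (MonoidAlgebra.basis G 𝕜)
  have h1 := (Submodule.finrank_mono hsup).trans (Submodule.finrank_add_le_finrank_add_finrank _ _)
  rw [finrank_top, Module.finrank_eq_card_basis (MonoidAlgebra.basis G 𝕜),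
    ← Nat.card_eq_fintype_card] at h1
  omega

theorem finrank_centre_le : finrank 𝕜 (centerSpace 𝕜 (bElt hM S)) ≤ Nat.card S := by
  classical
  have hac := isClassFunction_blockCoeff S
  let T : Submodule ℂ (G → ℂ) :=
    { carrier := {f | Cfsg.IsClassFunction G f ∧ ∀ χ : Cfsg.IrrCharacter G, χ ∉ S →
        omega (χ : G → ℂ) f = 0}
      zero_mem' := ⟨fun g c => rfl, fun χ _ => by simp [omega]⟩
      add_mem' := fun {f f'} hf hf' => ⟨fun g c => by
        show f _ + f' _ = f _ + f' _
        rw [hf.1, hf'.1], fun χ hχ => by rw [omega_add, hf.2 χ hχ, hf'.2 χ hχ, add_zero]⟩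
      smul_mem' := fun r f hf => ⟨fun g c => by
        show r * f _ = r * f _
        rw [hf.1], fun χ hχ => by rw [omega_smul, hf.2 χ hχ, mul_zero]⟩ }
  refine (finrank_le_of_lifts hM _ T fun z hz => ?_).trans ?_
  · obtain ⟨hzc, hεz⟩ := hz
    have hc := isClassFunction_lift hzc
    refine ⟨conv (Cfsg.blockCoeff S) (lift z), ⟨isClassFunction_conv hac hc, fun χ hχ => ?_⟩,
      memLocalRing_conv hM hS (memLocalRing_lift hM z), fun g => ?_⟩
    · rw [omega_conv χ.2 hac hc, omega_blockCoeff, if_neg hχ, zero_mul]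
    · rw [← coeff_res, res_conv hM hS (memLocalRing_lift hM z), res_lift]
      exact congrArg (fun x : MonoidAlgebra 𝕜 G => x.coeff g) hεz
  let Φ : T →ₗ[ℂ] (S → ℂ) :=
    { toFun := fun f χ => omega ((χ : Cfsg.IrrCharacter G) : G → ℂ) (f : G → ℂ)
      map_add' := fun f f' => funext fun χ => omega_add _ _ _
      map_smul' := fun c f => funext fun χ => omega_smul _ _ _ }
  have hinj : Function.Injective Φ := (injective_iff_map_eq_zero _).2 fun f hf => by
    refine Subtype.ext (classFun_ext_omega f.2.1 (fun g c => rfl) fun χ => ?_)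
    rw [show omega (χ : G → ℂ) ((0 : T) : G → ℂ) = 0 by simp [omega]]
    by_cases hχ : χ ∈ S
    · exact congrFun hf ⟨χ, hχ⟩
    · exact f.2.2 χ hχ
  refine (LinearMap.finrank_le_finrank_of_injective hinj).trans ?_
  rw [Module.finrank_fintype_fun_eq_card, Nat.card_eq_fintype_card]

theorem card_le_finrank_centre : Nat.card S ≤ finrank 𝕜 (centerSpace 𝕜 (bElt hM S)) := by
  classical
  have hle := finrank_centre_le hM (memLocalRing_compl hM hS)
  have : Finite (ConjClasses G) := Quotient.finite _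
  have := Fintype.ofFinite (ConjClasses G)
  have hfd : FiniteDimensional 𝕜 (MonoidAlgebra 𝕜 G) :=
    Module.Finite.of_basis (MonoidAlgebra.basis G 𝕜)
  let Z : Submodule 𝕜 (MonoidAlgebra 𝕜 G) := centerSpace 𝕜 1
  let K : ConjClasses G → Z := fun C => ⟨res hM (classInd C.out),
    res_central hM (isClassFunction_classInd C.out), one_mul _⟩
  have hK : LinearIndependent 𝕜 K := by
    refine Fintype.linearIndependent_iff.2 fun c hc C => ?_
    have h := congrArg (fun x : Z => (x : MonoidAlgebra 𝕜 G).coeff C.out) hc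
    simp only [AddSubmonoidClass.coe_finsetSum, SetLike.val_smul, MonoidAlgebra.coeff_sum,
      Finsupp.finsetSum_apply, MonoidAlgebra.coeff_smul_apply, K, coeff_res, ZeroMemClass.coe_zero,
      MonoidAlgebra.coeff_zero, Finsupp.zero_apply, classInd_apply, smul_eq_mul] at h
    rw [Finset.sum_eq_single C] at h
    · rw [if_pos (IsConj.refl _)] at h
      rw [show resFun hM (1 : ℂ) = 1 by simpa using resFun_coe hM (1 : Cfsg.AlgInt), mul_one] at h
      exact h
    · intro C' _ hne
      rw [if_neg fun hc' => hne (by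
        rw [← Quotient.out_eq C', ← Quotient.out_eq C]
        exact ConjClasses.mk_eq_mk_iff_isConj.2 hc')]
      rw [resFun_zero' hM, mul_zero]
    · simp
  have hsup : Z ≤ centerSpace 𝕜 (bElt hM S) ⊔ centerSpace 𝕜 (bElt hM Sᶜ) := fun x hx => by
    have hmem : ∀ T : Set (Cfsg.IrrCharacter G), (∀ g, Cfsg.MemLocalRing M (Cfsg.blockCoeff T g)) →
        bElt hM T * x ∈ centerSpace 𝕜 (bElt hM T) := fun T hT =>
      ⟨fun y => by rw [mul_assoc, hx.1, ← mul_assoc, bElt_central hM, mul_assoc],
        by rw [← mul_assoc, bElt_idem_set hM hT]⟩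
    refine Submodule.mem_sup.2 ⟨_, hmem S hS, _, hmem Sᶜ (memLocalRing_compl hM hS), ?_⟩
    rw [← add_mul, bElt_add_compl hM hS, one_mul]
  have h1 := (hK.fintype_card_le_finrank).trans
    ((Submodule.finrank_mono hsup).trans (Submodule.finrank_add_le_finrank_add_finrank _ _))
  rw [← Nat.card_eq_fintype_card, ← Char.card_irrCharacter, ← Nat.card_congr
    (Equiv.Set.sumCompl S), Nat.card_sum] at h1
  omega

end Cfsg.Agent.Blocks.NormalDefect
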