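import Cfsg.Agent.BlockChar.Cyclic.Rank1

/-!
# Block algebras that are full matrix rings over their centres

A block algebra whose quotient by a nilpotent kernel has matrix units of size `d`, whose
dimension is at most `d * d * K` and whose centre has dimension at least `K` is spanned over its
centre by the lifted matrix units; so the kernel is generated by central elements of the kernel.
-/

set_option autoImplicit false

namespace Cfsg.Agent.Blocks.NormalDefect

open Cfsg.Agent.BlockChar.Cyclic (cornerSpace centerSpace mem_cornerSpace exists_idem_of_nilpotent)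

universe u v w

variable {k : Type w} [Field k] {R : Type u} [Ring R] [Algebra k R] {S : Type v} [Ring S]
  [Algebra k S]

theorem mem_pow_jacobson {ι : Type*} [Fintype ι] [DecidableEq ι] {N : Matrix ι ι R}
    (h : ∀ a b, N a b ∈ Ring.jacobson R) :
    ∀ m a b, (N ^ (m + 1)) a b ∈ Ring.jacobson R ^ (m + 1) := by
  intro m
  induction m with
  | zero => intro a b; rw [zero_add, pow_one, Submodule.pow_one]; exact h a b
  | succ m ih =>
    intro a b
    rw [pow_succ N (m + 1), Matrix.mul_apply, Submodule.pow_succ]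
    exact sum_mem fun c _ => Ideal.mul_mem_mul (ih a c) (h c b)

variable [FiniteDimensional k R]

variable (k) in
include k in
theorem isNilpotent_of_mem_jacobson {ι : Type*} [Fintype ι] [DecidableEq ι] {N : Matrix ι ι R}
    (h : ∀ a b, N a b ∈ Ring.jacobson R) : IsNilpotent N := by
  have : IsArtinianRing R := IsArtinianRing.of_finite k R
  obtain ⟨m, hm⟩ := IsSemiprimaryRing.isNilpotent (R := R)
  refine ⟨m + 1, Matrix.ext fun a b => ?_⟩
  have := mem_pow_jacobson h m a b
  rw [Submodule.pow_succ, hm] at this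
  simpa using this

variable (k) in
include k in
theorem isNilpotent_of_mem {x : R} (h : x ∈ Ring.jacobson R) : IsNilpotent x := by
  have : IsArtinianRing R := IsArtinianRing.of_finite k R
  obtain ⟨m, hm⟩ := IsSemiprimaryRing.isNilpotent (R := R)
  refine ⟨m, ?_⟩
  have := Ideal.pow_mem_pow h m
  rw [hm] at this
  simpa using this

/-- The kernel of the reduction is generated by its central elements. -/
theorem exists_central_span (π : R →ₐ[k] S) (hπ : Function.Surjective π)
    (hker : ∀ z, π z = 0 → z ∈ Ring.jacobson R) {ε : R} (hε : ε * ε = ε)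
    (hεc : ∀ x, ε * x = x * ε) {d K : ℕ} (hd : 0 < d) (i' : S) (u' v' : Fin d → S)
    (hi' : i' * i' = i') (hu : ∀ s, u' s * i' = u' s) (hv : ∀ t, i' * v' t = v' t)
    (hvu : ∀ t s, v' t * u' s = if t = s then i' else 0) (hone : ∑ s, u' s * v' s = π ε)
    (hdim : Module.finrank k (LinearMap.range (LinearMap.mulLeft k ε)) ≤ d * d * K)
    (hcen : K ≤ Module.finrank k (centerSpace k ε)) (r : R) (hr : π r = 0) (hεr : ε * r = r) :
    ∃ z a : Fin d × Fin d → R, (∀ j, (∀ y, z j * y = y * z j) ∧ π (z j) = 0) ∧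
      r = ∑ j, z j * a j := by
  classical
  obtain ⟨q₀⟩ : Nonempty (Fin d) := ⟨⟨0, hd⟩⟩
  have hεS : ∀ y, π ε * y = y * π ε := fun y => by
    obtain ⟨x, rfl⟩ := hπ y
    rw [← map_mul, ← map_mul, hεc]
  have hεu : ∀ s, π ε * u' s = u' s := fun s => by
    rw [← hone, Finset.sum_mul, Finset.sum_eq_single s]
    · rw [mul_assoc, hvu, if_pos rfl, hu]
    · intro t _ ht
      rw [mul_assoc, hvu, if_neg ht, mul_zero]
    · simp
  have hεi : π ε * i' = i' := by
    have h1 : i' = v' q₀ * u' q₀ := by rw [hvu, if_pos rfl]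
    rw [h1, ← mul_assoc, hεS, mul_assoc, hεu]
  -- lift of the idempotent
  obtain ⟨a₁, ha₁⟩ := hπ i'
  obtain ⟨N, hN⟩ := isNilpotent_of_mem k (hker (a₁ - a₁ * a₁)
    (by rw [map_sub, map_mul, ha₁, hi', sub_self]))
  obtain ⟨e₁, he₁, -, -, hS'⟩ := exists_idem_of_nilpotent (k := k) (R := R) (Nat.succ_pos N)
    (show (a₁ - a₁ * a₁) ^ (N + 1) = 0 by rw [pow_succ, hN, zero_mul])
  obtain ⟨-, s₁, -, hs₁⟩ := hS' ⊤ trivial
  have hπe : π e₁ = i' := by
    have h := congrArg π hs₁
    rwa [map_mul, map_sub, map_sub, map_mul, ha₁, hi', sub_self, zero_mul, sub_eq_zero] at h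
  obtain ⟨i, hi_def⟩ : ∃ i, i = ε * e₁ := ⟨_, rfl⟩
  have hi : i * i = i := by
    rw [hi_def, mul_assoc, ← mul_assoc e₁, ← hεc, mul_assoc, he₁, ← mul_assoc, hε]
  have hεi0 : ε * i = i := by rw [hi_def, ← mul_assoc, hε]
  have hπi : π i = i' := by rw [hi_def, map_mul, hπe, hεi]
  choose lu hlu using fun s => hπ (u' s)
  choose lv hlv using fun t => hπ (v' t)
  obtain ⟨uu, huu⟩ : ∃ uu : Fin d → R, ∀ s, uu s = ε * lu s * i := ⟨_, fun _ => rfl⟩
  obtain ⟨vv, hvv⟩ : ∃ vv : Fin d → R, ∀ t, vv t = i * lv t := ⟨_, fun _ => rfl⟩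
  have huui : ∀ s, uu s * i = uu s := fun s => by rw [huu, mul_assoc, hi]
  have hivv : ∀ t, i * vv t = vv t := fun t => by rw [hvv, ← mul_assoc, hi]
  have hπu : ∀ s, π (uu s) = u' s := fun s => by
    rw [huu, map_mul, map_mul, hlu, hπi, mul_assoc, hu, hεu]
  have hπv : ∀ t, π (vv t) = v' t := fun t => by rw [hvv, map_mul, hlv, hπi, hv]
  -- the matrix of the products
  let E : Matrix (Fin d) (Fin d) R := Matrix.diagonal fun _ => i
  let W : Matrix (Fin d) (Fin d) R := fun t s => vv t * uu s
  let Nm : Matrix (Fin d) (Fin d) R := W - E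
  have hNnil : IsNilpotent Nm := by
    refine isNilpotent_of_mem_jacobson k fun a b => hker _ ?_
    show π (vv a * uu b - E a b) = 0
    rw [map_sub, map_mul, hπv, hπu, hvu, sub_eq_zero]
    simp only [E, Matrix.diagonal_apply]
    split_ifs
    · exact hπi.symm
    · exact (map_zero π).symm
  obtain ⟨c₁, hc₁⟩ := (IsNilpotent.isUnit_one_add hNnil)
  -- the map from matrices over the corner
  let Φ : (Fin d → Fin d → cornerSpace k i) →ₗ[k] R :=
    { toFun := fun A => ∑ j : Fin d × Fin d, uu j.1 * (A j.1 j.2 : R) * vv j.2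
      map_add' := fun A A' => by
        simp [mul_add, add_mul, Finset.sum_add_distrib]
      map_smul' := fun c A => by
        simp [Finset.smul_sum, mul_smul_comm, smul_mul_assoc] }
  have hΦ : ∀ A, Φ A = ∑ j : Fin d × Fin d, uu j.1 * (A j.1 j.2 : R) * vv j.2 := fun A => rfl
  have hcorner : ∀ a ∈ cornerSpace k i, i * a = a ∧ a * i = a := fun a ha => by
    have ha' : i * a * i = a := mem_cornerSpace.1 ha
    constructor
    · conv_lhs => rw [← ha', ← mul_assoc, ← mul_assoc, hi]
      exact ha'
    · conv_lhs => rw [← ha', mul_assoc, hi]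
      exact ha'
  have hΦinj : Function.Injective Φ := (injective_iff_map_eq_zero _).2 fun A hA => by
    let Am : Matrix (Fin d) (Fin d) R := fun s t => (A s t : R)
    have hEA : E * Am = Am := Matrix.ext fun s t => by
      rw [Matrix.diagonal_mul]
      exact (hcorner _ (A s t).2).1
    have hAE : Am * E = Am := Matrix.ext fun s t => by
      rw [Matrix.mul_diagonal]
      exact (hcorner _ (A s t).2).2
    have hWAW : W * Am * W = 0 := Matrix.ext fun q q' => by
      rw [Matrix.mul_apply]
      simp only [Matrix.mul_apply, Finset.sum_mul, Matrix.zero_apply]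
      have h : vv q * Φ A * uu q' = 0 := by rw [hA, mul_zero, zero_mul]
      rw [hΦ, Finset.mul_sum, Finset.sum_mul, Fintype.sum_prod_type, Finset.sum_comm] at h
      rw [← h]
      refine Finset.sum_congr rfl fun t _ => Finset.sum_congr rfl fun s _ => ?_
      simp only [W, Am, mul_assoc]
    have h1 : (1 + Nm) * Am * (1 + Nm) = 0 := by
      rw [← hWAW]
      have e1 : (1 + Nm) * Am = W * Am := by
        simp only [Nm]
        rw [add_mul, one_mul, sub_mul, hEA, add_sub_cancel]
      rw [e1, mul_add, mul_one, mul_sub, mul_assoc W Am E, hAE, add_sub_cancel]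
    rw [← hc₁, Units.mul_left_eq_zero, Units.mul_right_eq_zero] at h1
    funext s t
    exact Subtype.ext (congrFun (congrFun h1 s) t)
  set L := LinearMap.range (LinearMap.mulLeft k ε) with hL
  have hΦL : LinearMap.range Φ ≤ L := by
    rintro _ ⟨A, rfl⟩
    refine ⟨Φ A, ?_⟩
    show ε * Φ A = Φ A
    rw [hΦ, Finset.mul_sum]
    refine Finset.sum_congr rfl fun j _ => ?_
    have h : ε * uu j.1 = uu j.1 := by rw [huu, ← mul_assoc, ← mul_assoc, hε]
    rw [← mul_assoc, ← mul_assoc, h]
  have hCK : Module.finrank k (cornerSpace k i) ≤ K := by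
    have h := (LinearMap.finrank_range_of_inj hΦinj) ▸ ((Submodule.finrank_mono hΦL).trans hdim)
    rw [Module.finrank_pi_fintype, Finset.sum_const, Module.finrank_pi_fintype, Finset.sum_const,
      Finset.card_univ, Fintype.card_fin, smul_eq_mul, smul_eq_mul, ← mul_assoc] at h
    exact Nat.le_of_mul_le_mul_left h (Nat.mul_pos hd hd)
  -- the centre maps onto the corner
  obtain ⟨n', hn', hεn⟩ : ∃ n' : R, π n' = 0 ∧ ε = ∑ s, uu s * vv s + n' :=
    ⟨ε - ∑ s, uu s * vv s, by
      simp only [map_sub, map_sum, map_mul, hπu, hπv, hone, sub_self], by abel⟩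
  let ζ : centerSpace k ε →ₗ[k] cornerSpace k i :=
    { toFun := fun z => ⟨(z : R) * i, by
        rw [mem_cornerSpace, ← mul_assoc, ← z.2.1, mul_assoc, mul_assoc, hi, hi]⟩
      map_add' := fun z z' => Subtype.ext (add_mul _ _ _)
      map_smul' := fun c z => Subtype.ext (smul_mul_assoc _ _ _) }
  have hζ : Function.Injective ζ := (injective_iff_map_eq_zero _).2 fun z hz => by
    have hzi : (z : R) * i = 0 := congrArg Subtype.val hz
    have h1 : (z : R) * n' = z := by
      have h2 : (z : R) * ε = z := by rw [z.2.1, z.2.2]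
      calc (z : R) * n' = (z : R) * (∑ s, uu s * vv s + n') := ?_
        _ = (z : R) := by rw [← hεn]; exact h2
      rw [mul_add, Finset.mul_sum]
      rw [Finset.sum_eq_zero, zero_add]
      intro s _
      rw [← huui s, ← mul_assoc, ← mul_assoc, z.2.1 (uu s), mul_assoc (uu s) (z : R) i, hzi,
        mul_zero, zero_mul]
    obtain ⟨m, hm⟩ := isNilpotent_of_mem k (hker n' hn')
    have h3 : ∀ m, (z : R) * n' ^ m = z := by
      intro m
      induction m with
      | zero => rw [pow_zero, mul_one]
      | succ m ih => rw [pow_succ, ← mul_assoc, ih, h1]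
    refine Subtype.ext ?_
    rw [← h3 m, hm, mul_zero]
    rfl
  have hK : Module.finrank k (cornerSpace k i) = K :=
    le_antisymm hCK (hcen.trans (LinearMap.finrank_le_finrank_of_injective hζ))
  have hζs : Function.Surjective ζ :=
    (LinearMap.injective_iff_surjective_of_finrank_eq_finrank (le_antisymm
      (LinearMap.finrank_le_finrank_of_injective hζ) (hK ▸ hcen))).1 hζ
  have hΦs : LinearMap.range Φ = L := by
    refine Submodule.eq_of_le_of_finrank_le hΦL (hdim.trans (le_of_eq ?_))
    rw [LinearMap.finrank_range_of_inj hΦinj, Module.finrank_pi_fintype, Finset.sum_const,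
      Module.finrank_pi_fintype, Finset.sum_const, Finset.card_univ, Fintype.card_fin,
      smul_eq_mul, smul_eq_mul, hK, mul_assoc]
  obtain ⟨A, hA⟩ : r ∈ LinearMap.range Φ := hΦs ▸ ⟨r, hεr⟩
  choose z hz using fun j : Fin d × Fin d => hζs (A j.1 j.2)
  refine ⟨fun j => z j, fun j => uu j.1 * vv j.2, fun j => ⟨(z j).2.1, ?_⟩, ?_⟩
  · have hzi : (z j : R) * i = A j.1 j.2 := congrArg Subtype.val (hz j)
    have h0 : π (A j.1 j.2 : R) = 0 := by
      have h2 : v' j.1 * π (Φ A) * u' j.2 = 0 := by rw [hA, hr, mul_zero, zero_mul]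
      rw [hΦ, map_sum, Finset.mul_sum, Finset.sum_mul, Finset.sum_eq_single j] at h2
      · rw [map_mul, map_mul, hπu, hπv, ← mul_assoc, ← mul_assoc, hvu, if_pos rfl,
          mul_assoc _ (v' j.2), hvu, if_pos rfl, ← hπi, ← map_mul, ← map_mul,
          mem_cornerSpace.1 (A j.1 j.2).2] at h2
        exact h2
      · intro l _ hl
        rw [map_mul, map_mul, hπu, hπv, ← mul_assoc, ← mul_assoc, hvu,
          mul_assoc _ (v' l.2), hvu]
        rcases eq_or_ne j.1 l.1 with h | h
        · rw [if_neg (fun h' => hl (Prod.ext h.symm h')), mul_zero]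
        · rw [if_neg h, zero_mul, zero_mul]
      · simp
    have hzi' : π (z j : R) * i' = 0 := by rw [← hπi, ← map_mul, hzi, h0]
    have hzS : ∀ y, π (z j : R) * y = y * π (z j : R) := fun y => by
      obtain ⟨x, rfl⟩ := hπ y
      rw [← map_mul, ← map_mul, (z j).2.1]
    show π (z j : R) = 0
    rw [← (z j).2.2, map_mul, ← hone, Finset.sum_mul]
    refine Finset.sum_eq_zero fun s _ => ?_
    rw [← hv s, mul_assoc, mul_assoc i', ← hzS (v' s), ← mul_assoc i', ← hzS i', hzi', zero_mul,
      mul_zero]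
  · rw [← hA, hΦ]
    refine Finset.sum_congr rfl fun j _ => ?_
    have hzi : (z j : R) * i = A j.1 j.2 := congrArg Subtype.val (hz j)
    show uu j.1 * (A j.1 j.2 : R) * vv j.2 = (z j : R) * (uu j.1 * vv j.2)
    rw [← hzi, ← mul_assoc, ← (z j).2.1, mul_assoc (z j : R), huui, mul_assoc]

end Cfsg.Agent.Blocks.NormalDefect
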