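import Cfsg.Agent.Blocks.NormalDefect.Derivation

/-!
# A p-regular element acting on an abelian normal p-subgroup

The commutators of the element with the subgroup form a subgroup on which it has no fixed point,
so their product is trivial, and the homomorphisms to a field of characteristic `p` see the
action.
-/

set_option autoImplicit false

namespace Cfsg.Agent.Blocks.NormalDefect

universe u v w

section Action

variable {H : Type u} [Group H] {Q : Type v} [Group Q] {π : H →* Q}

/-- `a ↦ a (y a y⁻¹)⁻¹` on an abelian kernel. -/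
def commMap (hab : ∀ a b : π.ker, a * b = b * a) (y : H) : π.ker →* π.ker where
  toFun a := a * (⟨y * (a : H) * y⁻¹, conj_ker_mem y a⟩ : π.ker)⁻¹
  map_one' := Subtype.ext (by simp)
  map_mul' a b := by
    have h : (⟨y * ((a * b : π.ker) : H) * y⁻¹, conj_ker_mem y (a * b)⟩ : π.ker) =
        ⟨y * (a : H) * y⁻¹, conj_ker_mem y a⟩ * ⟨y * (b : H) * y⁻¹, conj_ker_mem y b⟩ :=
      Subtype.ext (by simp [mul_assoc])
    rw [h, mul_inv_rev]
    set a' : π.ker := (⟨y * (a : H) * y⁻¹, conj_ker_mem y a⟩ : π.ker)⁻¹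
    set b' : π.ker := (⟨y * (b : H) * y⁻¹, conj_ker_mem y b⟩ : π.ker)⁻¹
    rw [hab b' a', mul_assoc a b, ← mul_assoc b a' b', hab b a', mul_assoc a' b b',
      ← mul_assoc a a']

theorem coe_commMap (hab : ∀ a b : π.ker, a * b = b * a) (y : H) (a : π.ker) :
    (commMap hab y a : H) = (a : H) * (y * (a : H) * y⁻¹)⁻¹ := rfl

theorem commMap_eq_of_conj (hab : ∀ a b : π.ker, a * b = b * a) {y s : H}
    (h : ∀ a : π.ker, y * (a : H) * y⁻¹ = s * (a : H) * s⁻¹) :
    commMap hab y = commMap hab s :=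
  MonoidHom.ext fun a => Subtype.ext (by rw [coe_commMap, coe_commMap, h])

variable {p : ℕ} [Fact p.Prime]

/-- A fixed commutator is trivial. -/
theorem commMap_fixed (hab : ∀ a b : π.ker, a * b = b * a) (hker : IsPGroup p π.ker) {s : H}
    {m : ℕ} (hm : ¬ p ∣ m) (hs : s ^ m = 1) (b : π.ker)
    (hfix : s * (commMap hab s b : H) * s⁻¹ = commMap hab s b) : commMap hab s b = 1 := by
  obtain ⟨w, hw⟩ : ∃ w : H, w = (commMap hab s b : H) := ⟨_, rfl⟩
  rw [← hw] at hfix
  have hsb : s * (b : H) * s⁻¹ = w⁻¹ * b := by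
    rw [hw, coe_commMap, mul_inv_rev, inv_inv, inv_mul_cancel_right]
  have hiter : ∀ n : ℕ, s ^ n * (b : H) * (s ^ n)⁻¹ = (w ^ n)⁻¹ * b := by
    intro n
    induction n with
    | zero => simp
    | succ n ih =>
      have hwn : s * (w ^ n)⁻¹ * s⁻¹ = (w ^ n)⁻¹ := by
        rw [← MulAut.conj_apply, map_inv, map_pow, MulAut.conj_apply, hfix]
      calc s ^ (n + 1) * (b : H) * (s ^ (n + 1))⁻¹
          = s * (s ^ n * (b : H) * (s ^ n)⁻¹) * s⁻¹ := by rw [pow_succ']; group
        _ = s * (w ^ n)⁻¹ * s⁻¹ * (s * (b : H) * s⁻¹) := by rw [ih]; group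
        _ = (w ^ (n + 1))⁻¹ * b := by rw [hwn, hsb, pow_succ', mul_inv_rev, mul_assoc]
  have hwm : w ^ m = 1 := by
    have h := hiter m
    rwa [hs, one_mul, inv_one, mul_one, eq_comm, mul_eq_right, inv_eq_one] at h
  refine Subtype.ext ?_
  rw [← hw]
  show w = 1
  obtain ⟨j, hj⟩ := hker (commMap hab s b)
  have hwj : w ^ (p ^ j) = 1 := by rw [hw]; exact congrArg Subtype.val hj
  have hco : Nat.Coprime (p ^ j) m :=
    Nat.Coprime.pow_left j (((Fact.out : p.Prime).coprime_iff_not_dvd).2 hm)
  refine orderOf_eq_one_iff.1 (Nat.eq_one_of_dvd_coprimes hco ?_ ?_)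
  · exact orderOf_dvd_of_pow_eq_one hwj
  · exact orderOf_dvd_of_pow_eq_one hwm

end Action

section Field

variable (k : Type w) [Field k] {p : ℕ} [Fact p.Prime] [CharP k p]

/-- An element outside the p-th powers is seen by an additive function. -/
theorem exists_additive_ne_zero {A : Type u} [Group A] [Finite A] (hab : ∀ a b : A, a * b = b * a)
    {a : A} (ha : ∀ c : A, c ^ p ≠ a) :
    ∃ f : A → k, (∀ b c, f (b * c) = f b + f c) ∧ f a ≠ 0 := by
  letI : CommGroup A := { (inferInstance : Group A) with mul_comm := hab }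
  set P : Subgroup A := (powMonoidHom p : A →* A).range with hP
  have hpow : ∀ q : Additive (A ⧸ P), p • q = 0 := fun q => by
    obtain ⟨c, hc⟩ := QuotientGroup.mk_surjective (Additive.toMul q)
    apply Additive.toMul.injective
    rw [toMul_nsmul, ← hc, toMul_zero, ← QuotientGroup.mk_pow]
    exact (QuotientGroup.eq_one_iff _).2 ⟨c, rfl⟩
  have : NeZero p := ⟨(Fact.out : p.Prime).ne_zero⟩
  have : Module (ZMod p) (Additive (A ⧸ P)) := AddCommGroup.zmodModule hpow
  have hne : Additive.ofMul (a : A ⧸ P) ≠ 0 := fun h => by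
    have h' : (a : A ⧸ P) = 1 := h
    obtain ⟨c, hc⟩ := (QuotientGroup.eq_one_iff a).1 h'
    exact ha c hc
  obtain ⟨l, hl⟩ := Module.Projective.exists_dual_ne_zero (ZMod p) hne
  refine ⟨fun b => ZMod.castHom (dvd_refl p) k (l (Additive.ofMul (b : A ⧸ P))), fun b c => ?_,
    fun h => hl ((ZMod.castHom_injective k) (h.trans (map_zero _).symm))⟩
  show ZMod.castHom (dvd_refl p) k (l (Additive.ofMul ((b * c : A) : A ⧸ P))) = _
  rw [QuotientGroup.mk_mul, ofMul_mul, map_add, map_add]

variable {H : Type u} [Group H] [Fintype H] {Q : Type v} [Group Q] {π : H →* Q}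

/-- The additive functions see the action of a p-regular element. -/
theorem conj_trivial_of_additive (hab : ∀ a b : π.ker, a * b = b * a) (hker : IsPGroup p π.ker)
    {s : H} {m : ℕ} (hm : ¬ p ∣ m) (hs : s ^ m = 1)
    (h : ∀ f : π.ker → k, (∀ a b, f (a * b) = f a + f b) →
      ∀ a : π.ker, f ⟨s * (a : H) * s⁻¹, conj_ker_mem s a⟩ = f a)
    (a : π.ker) : s * (a : H) * s⁻¹ = a := by
  classical
  set κ := commMap hab s with hκ
  have hpow : ∀ w : π.ker, ∃ c : π.ker, c ^ p = κ w := by
    intro w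
    by_contra hne
    push Not at hne
    obtain ⟨f, hf, hfw⟩ := exists_additive_ne_zero k hab hne
    refine hfw ?_
    have e : κ w * ⟨s * (w : H) * s⁻¹, conj_ker_mem s w⟩ = w :=
      Subtype.ext (by simp [κ, coe_commMap, mul_assoc])
    have h1 := congrArg f e
    rwa [hf, h f hf, add_eq_right] at h1
  have hfin : Finite κ.range := inferInstance
  have hinj : ∀ w : π.ker, w ∈ κ.range → κ w = 1 → w = 1 := by
    rintro _ ⟨b, rfl⟩ hb
    refine commMap_fixed hab hker hm hs b ?_
    have := congrArg Subtype.val hb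
    simp only [κ, coe_commMap, OneMemClass.coe_one, mul_inv_eq_one] at this
    exact this.symm
  let κ' : κ.range →* κ.range := (κ.comp κ.range.subtype).codRestrict _ fun w => ⟨w, rfl⟩
  have hκ' : Function.Surjective κ' := Finite.surjective_of_injective
    ((injective_iff_map_eq_one κ').2 fun w hw =>
      Subtype.ext (hinj w w.2 (congrArg Subtype.val hw)))
  have hbot : κ.range = ⊥ := by
    by_contra hne
    have : Nontrivial κ.range := (Subgroup.nontrivial_iff_ne_bot _).2 hne
    let P : κ.range → κ.range := fun w => w ^ p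
    have hPs : Function.Surjective P := fun w => by
      obtain ⟨w', rfl⟩ := hκ' w
      obtain ⟨c₀, hc₀⟩ : ∃ c, κ c = (w' : π.ker) := w'.2
      obtain ⟨c, hc⟩ := hpow c₀
      refine ⟨⟨κ c, c, rfl⟩, Subtype.ext ?_⟩
      show κ c ^ p = κ (w' : π.ker)
      rw [← map_pow, hc, hc₀]
    have hPi := Finite.injective_iff_surjective.2 hPs
    obtain ⟨j, hj⟩ := IsPGroup.iff_card.1 (hker.to_subgroup κ.range)
    have hj0 : j ≠ 0 := fun h0 => by
      rw [h0, pow_zero] at hj
      exact hne (Subgroup.card_eq_one.1 hj)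
    obtain ⟨g, hg⟩ := exists_prime_orderOf_dvd_card' (G := κ.range) p
      (hj ▸ dvd_pow_self p hj0)
    have hg1 : g = 1 := hPi (show g ^ p = (1 : κ.range) ^ p by
      rw [one_pow, ← hg, pow_orderOf_eq_one])
    rw [hg1, orderOf_one] at hg
    exact (Fact.out : p.Prime).ne_one hg.symm
  have hA : κ a = 1 := by
    have : κ a ∈ κ.range := ⟨a, rfl⟩
    rwa [hbot, Subgroup.mem_bot] at this
  have h1 : (a : H) * (s * (a : H) * s⁻¹)⁻¹ = 1 := congrArg Subtype.val hA
  exact (mul_inv_eq_one.1 h1).symm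

/-- The derivation of a central element vanishes at a coset acting non-trivially. -/
theorem coeff_derivMap_eq_zero [DecidableEq Q] (hπ : Function.Surjective π)
    (hab : ∀ a b : π.ker, a * b = b * a) (hker : IsPGroup p π.ker) {f : π.ker → k}
    (hf : ∀ a b : π.ker, f (a * b) = f a + f b) {z : MonoidAlgebra k H}
    (hz : ∀ g x : H, z.coeff (g * x * g⁻¹) = z.coeff x) {y s : H} {m : ℕ} (hm : ¬ p ∣ m)
    (hs : s ^ m = 1) (hys : ∀ a : π.ker, y * (a : H) * y⁻¹ = s * (a : H) * s⁻¹)
    (hne : ∃ a : π.ker, s * (a : H) * s⁻¹ ≠ a) :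
    (derivMap k hπ f z).coeff (π y) = 0 := by
  classical
  have := Fintype.ofFinite π.ker
  set t := sec hπ (π y) with ht
  have hty : ∀ a : π.ker, t * (a : H) * t⁻¹ = y * (a : H) * y⁻¹ := by
    intro a
    have h1 : y⁻¹ * t ∈ π.ker := by
      rw [MonoidHom.mem_ker, map_mul, map_inv, ht, pi_sec, inv_mul_cancel]
    have h2 := congrArg Subtype.val (hab ⟨_, h1⟩ a)
    simp only [Subgroup.coe_mul] at h2
    calc t * (a : H) * t⁻¹ = y * (y⁻¹ * t * a) * t⁻¹ := by group
      _ = y * ((a : H) * (y⁻¹ * t)) * t⁻¹ := by rw [h2]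
      _ = y * (a : H) * y⁻¹ := by group
  set κ := commMap hab t with hκ
  have hκs : κ = commMap hab s :=
    commMap_eq_of_conj hab fun a => (hty a).trans (hys a)
  have hinv : ∀ a w : π.ker, w ∈ κ.range → z.coeff ((a * w : π.ker) * t) = z.coeff ((a : H) * t) := by
    rintro a _ ⟨b, rfl⟩
    rw [← hz (b : H) ((a : H) * t)]
    congr 1
    have h2 : (b : H) * a = a * b := congrArg Subtype.val (hab b a)
    rw [Subgroup.coe_mul, hκ, coe_commMap, ← mul_assoc (b : H) (a : H), h2]
    group
  -- the coefficient as a sum over the kernel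
  have hadj : adj hπ t = 1 := Subtype.ext (by
    show t * (sec hπ (π t))⁻¹ = 1
    rw [ht, pi_sec, mul_inv_cancel])
  have hsum : (derivMap k hπ f z).coeff (π y) = ∑ a : π.ker, z.coeff ((a : H) * t) * f a := by
    rw [coeff_derivMap, ← Finset.sum_filter]
    refine (Finset.sum_nbij' (fun a : π.ker => (a : H) * t) (fun g => adj hπ g)
      (fun a _ => ?_) (fun g _ => Finset.mem_univ _) (fun a _ => ?_) (fun g hg => ?_)
      fun a _ => ?_).symm
    · have ha : π (a : H) = 1 := a.2
      simp [ha, ht, pi_sec]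
    · rw [adj_ker_mul, hadj, mul_one]
    · have hg' : π g = π y := (Finset.mem_filter.1 hg).2
      show (adj hπ g : H) * t = g
      rw [ht, ← hg', adj_mul_sec]
    · rw [adj_ker_mul, hadj, mul_one]
  -- sum over the cosets of the commutators
  set W := κ.range with hW
  have := Fintype.ofFinite W
  have := Fintype.ofFinite (π.ker ⧸ W)
  have hWne : W ≠ ⊥ := fun h => by
    obtain ⟨a, ha⟩ := hne
    have h0 : κ a ∈ W := ⟨a, rfl⟩
    rw [h, Subgroup.mem_bot, hκs] at h0
    have h1 : (a : H) * (s * (a : H) * s⁻¹)⁻¹ = 1 := congrArg Subtype.val h0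
    exact ha (mul_inv_eq_one.1 h1).symm
  obtain ⟨j, hj⟩ := IsPGroup.iff_card.1 (hker.to_subgroup W)
  have hWp : (Fintype.card W : k) = 0 := by
    rw [← Nat.card_eq_fintype_card, CharP.cast_eq_zero_iff k p, hj]
    exact dvd_pow_self p fun h0 => hWne (Subgroup.card_eq_one.1 (by rw [hj, h0, pow_zero]))
  have hprod : ∑ w : W, f (w : π.ker) = 0 := by
    letI : CommGroup π.ker := { (inferInstance : Group π.ker) with mul_comm := hab }
    have hf1 : f 1 = 0 := by
      have := hf 1 1
      rwa [one_mul, left_eq_add] at this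
    have hprod1 : ∑ w : W, f (w : π.ker) = f (∏ w : W, (w : π.ker)) := by
      induction (Finset.univ : Finset W) using Finset.induction_on with
      | empty => simp [hf1]
      | insert w S hw ih => rw [Finset.sum_insert hw, Finset.prod_insert hw, hf, ih]
    rw [hprod1]
    suffices h1 : ∏ w : W, (w : π.ker) = 1 by rw [h1, hf1]
    -- conjugation by `t` permutes the commutators
    let c : π.ker →* π.ker :=
      { toFun := fun a => ⟨t * (a : H) * t⁻¹, conj_ker_mem t a⟩
        map_one' := Subtype.ext (by simp)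
        map_mul' := fun a b => Subtype.ext (by simp [mul_assoc]) }
    have hcκ : ∀ b, c (κ b) = κ (c b) := fun b => Subtype.ext (by
      simp [c, κ, coe_commMap, mul_assoc])
    have hcW : ∀ w : W, c (w : π.ker) ∈ W := fun w => by
      obtain ⟨b, hb⟩ := w.2
      exact ⟨c b, by rw [← hb, hcκ]⟩
    have hci : Function.Injective c := fun a b hab' =>
      Subtype.ext (mul_left_cancel (mul_right_cancel (congrArg Subtype.val hab')))
    let σ : W → W := fun w => ⟨c (w : π.ker), hcW w⟩
    have hσ : Function.Bijective σ := by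
      rw [← Finite.injective_iff_bijective]
      exact fun a b hab' => Subtype.ext (hci (congrArg Subtype.val hab'))
    have hmem : ∏ w : W, (w : π.ker) ∈ W := W.prod_mem fun w _ => w.2
    have hfix : c (∏ w : W, (w : π.ker)) = ∏ w : W, (w : π.ker) := by
      rw [map_prod]
      exact Fintype.prod_bijective σ hσ _ _ fun w => rfl
    obtain ⟨b, hb⟩ := hmem
    rw [← hb, hκs] at hfix ⊢
    refine commMap_fixed hab hker hm hs b ?_
    rw [← hys, ← hty]
    exact congrArg Subtype.val hfix
  let E : (π.ker ⧸ W) × W ≃ π.ker :=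
    { toFun := fun qw => qw.1.out * (qw.2 : π.ker)
      invFun := fun a => ((a : π.ker ⧸ W), ⟨(a : π.ker ⧸ W).out⁻¹ * a,
        QuotientGroup.eq.1 (QuotientGroup.out_eq' _)⟩)
      left_inv := fun qw => by
        obtain ⟨q, w, hw⟩ := qw
        have h1 : ((q.out * w : π.ker) : π.ker ⧸ W) = q := by
          rw [QuotientGroup.mk_mul_of_mem _ hw, QuotientGroup.out_eq']
        refine Prod.ext h1 (Subtype.ext ?_)
        simp [h1]
      right_inv := fun a => mul_inv_cancel_left _ _ }
  rw [hsum, ← E.sum_comp, Fintype.sum_prod_type]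
  refine Finset.sum_eq_zero fun q _ => ?_
  have hterm : ∀ w : W, z.coeff ((E (q, w) : H) * t) * f (E (q, w)) =
      z.coeff ((q.out : H) * t) * (f q.out + f (w : π.ker)) := by
    intro w
    have e : E (q, w) = q.out * (w : π.ker) := rfl
    rw [e, hinv _ _ w.2, hf]
  simp only [hterm, ← Finset.mul_sum, Finset.sum_add_distrib, Finset.sum_const, Finset.card_univ,
    nsmul_eq_mul, hWp, zero_mul, zero_add, hprod, mul_zero]

end Field

end Cfsg.Agent.Blocks.NormalDefect
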