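import Cfsg.Agent.BrauerPairs.Nilpotent

/-!
# Pairs below a pair on a normal subgroup

If `(Q, f)` lies below `(D, e)` with `D` normal, the orbit of `e` under `C(Q)` covers `f`. So a
conjugation between two pairs below `(D, e)` is induced by an element fixing `(D, e)`.
-/

namespace Cfsg.Agent.Blocks.NormalDefect

open Cfsg.Agent Cfsg.Agent.Blocks Cfsg.Agent.BrauerPairs

universe u

variable {G : Type u} [Group G] [Finite G] {p : ℕ} {M : Ideal Cfsg.AlgInt}

local notation "CG[" Q "]" => Subgroup.centralizer (SetLike.coe Q)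
local notation "sbc" => Cfsg.subgroupBlockCoeff

/-- The idempotent of a pair, as a function on the group. -/
noncomputable def pIdem (a : Cfsg.BrauerPairIdx G) : G → ℂ := sbc CG[a.1] a.2

theorem pIdem_conjPair (x : G) (a : Cfsg.BrauerPairIdx G) (g : G) :
    pIdem (conjPair x a) g = pIdem a (x⁻¹ * g * x) := sbc_conjPair x a g

/-- The orbit of a pair under a subgroup. -/
noncomputable def pOrbit (H : Subgroup G) (b : Cfsg.BrauerPairIdx G) :
    Finset (Cfsg.BrauerPairIdx G) :=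
  (Set.toFinite ((fun h => conjPair h b) '' (H : Set G))).toFinset

theorem mem_pOrbit {H : Subgroup G} {b q : Cfsg.BrauerPairIdx G} :
    q ∈ pOrbit H b ↔ ∃ h ∈ H, conjPair h b = q := by
  simp [pOrbit]

theorem pOrbit_mono {H K : Subgroup G} (h : H ≤ K) (b : Cfsg.BrauerPairIdx G) :
    pOrbit H b ⊆ pOrbit K b := fun q hq => by
  obtain ⟨x, hx, rfl⟩ := mem_pOrbit.1 hq
  exact mem_pOrbit.2 ⟨x, h hx, rfl⟩

/-- All members are blocks on the subgroup `D`. -/
def AllOn (M : Ideal Cfsg.AlgInt) (D : Subgroup G) (S : Finset (Cfsg.BrauerPairIdx G)) : Prop :=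
  ∀ q ∈ S, q.1 = D ∧ Cfsg.IsPBlock M q.2

/-- The sum of the idempotents of a set of pairs. -/
noncomputable def pSum (S : Finset (Cfsg.BrauerPairIdx G)) : G → ℂ := ∑ q ∈ S, pIdem q

theorem pSum_support {D : Subgroup G} {S : Finset (Cfsg.BrauerPairIdx G)} (hS : AllOn M D S)
    {g : G} (hg : g ∉ CG[D]) : pSum S g = 0 := by
  rw [pSum, Finset.sum_apply]
  refine Finset.sum_eq_zero fun q hq => sbc_of_notMem _ ?_
  rw [(hS q hq).1]
  exact hg

theorem memLocalRing_pSum (hM : Cfsg.IsPModular p M) {D : Subgroup G}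
    {S : Finset (Cfsg.BrauerPairIdx G)} (hS : AllOn M D S) (g : G) :
    Cfsg.MemLocalRing M (pSum S g) := by
  rw [pSum, Finset.sum_apply]
  exact (localRing hM).sum_mem fun q hq => memLocalRing_sbc hM (hS q hq).2 g

theorem conv_pIdem_of_ne (hM : Cfsg.IsPModular p M) [Fintype G] {q q' : Cfsg.BrauerPairIdx G}
    (hq : Cfsg.IsPBlock M q.2) (hq' : Cfsg.IsPBlock M q'.2) (h1 : q.1 = q'.1) (hne : q ≠ q') :
    conv (pIdem q) (pIdem q') = 0 := by
  obtain ⟨A, a⟩ := q
  obtain ⟨A', a'⟩ := q'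
  dsimp only at hq hq' h1
  subst h1
  exact conv_sbc_disjoint (Set.disjoint_left.2 fun ξ h h' =>
    hne (congrArg (Sigma.mk A) (eq_of_mem hM hq hq' h h')))

open scoped Classical in
theorem conv_pSum (hM : Cfsg.IsPModular p M) [Fintype G] {D : Subgroup G}
    {S T : Finset (Cfsg.BrauerPairIdx G)} (hS : AllOn M D S) (hT : AllOn M D T) :
    conv (pSum S) (pSum T) = pSum (S ∩ T) := by
  funext z
  have h1 : conv (pSum S) (pSum T) z = ∑ q ∈ S, ∑ q' ∈ T, conv (pIdem q) (pIdem q') z := by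
    simp only [pSum, conv, Finset.sum_apply, Finset.sum_mul_sum]
    exact Finset.sum_comm.trans (Finset.sum_congr rfl fun q _ => Finset.sum_comm)
  rw [h1, pSum, Finset.sum_apply, Finset.inter_comm, ← Finset.filter_mem_eq_inter,
    Finset.sum_filter]
  refine Eq.trans Finset.sum_comm (Finset.sum_congr ?_ fun q' hq' => ?_)
  · rfl
  split_ifs with h
  · rw [Finset.sum_eq_single q']
    · exact congrFun (conv_sbc_self q'.2) z
    · intro q hq hne
      exact congrFun (conv_pIdem_of_ne hM (hS q hq).2 (hT q' hq').2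
        ((hS q hq).1.trans (hT q' hq').1.symm) hne) z
    · exact fun h' => absurd h h'
  · refine Finset.sum_eq_zero fun q hq => ?_
    exact congrFun (conv_pIdem_of_ne hM (hS q hq).2 (hT q' hq').2
      ((hS q hq).1.trans (hT q' hq').1.symm) fun he : q = q' => h (he ▸ hq)) z

theorem isPBlock_conjPair {b : Cfsg.BrauerPairIdx G} (hb : Cfsg.IsPBlock M b.2) (x : G) :
    Cfsg.IsPBlock M (conjPair x b).2 := by
  show Cfsg.IsPBlock M (Cfsg.conjBlock b.1 x b.2)
  rw [conjBlock_eq_mapBlock]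
  exact isPBlock_mapBlock _ hb

theorem conjPair_fst_of_normal {b : Cfsg.BrauerPairIdx G} (hn : b.1.Normal) (x : G) :
    (conjPair x b).1 = b.1 :=
  map_conj_eq (by rw [Subgroup.normalizer_eq_top]; trivial)

theorem allOn_pOrbit {b : Cfsg.BrauerPairIdx G} (hb : Cfsg.IsPBlock M b.2) (hn : b.1.Normal)
    (H : Subgroup G) : AllOn M b.1 (pOrbit H b) := fun q hq => by
  obtain ⟨x, -, rfl⟩ := mem_pOrbit.1 hq
  exact ⟨conjPair_fst_of_normal hn x, isPBlock_conjPair hb x⟩

theorem conjPair_fix {q : Cfsg.BrauerPairIdx G} {D : Subgroup G} (h : q.1 = D) {c : G}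
    (hc : c ∈ CG[D]) : conjPair c q = q := by
  obtain ⟨A, a⟩ := q
  dsimp only at h
  subst h
  exact conjPair_self (Subgroup.centralizer_le_normalizer (A : Set G) hc)
    (fun y => isInv_sbc a c hc y)

/-- The orbit sum is invariant under the subgroup. -/
theorem isInv_pSum_pOrbit (H : Subgroup G) (b : Cfsg.BrauerPairIdx G) :
    IsInv (H : Set G) (pSum (pOrbit H b)) := by
  classical
  intro k hk x
  simp only [pSum, Finset.sum_apply]
  refine Finset.sum_nbij' (conjPair k⁻¹) (conjPair k) ?_ ?_ ?_ ?_ ?_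
  · intro q hq
    obtain ⟨h, hh, rfl⟩ := mem_pOrbit.1 hq
    exact mem_pOrbit.2 ⟨k⁻¹ * h, H.mul_mem (H.inv_mem hk) hh, (conjPair_conjPair _ _ _).symm⟩
  · intro q hq
    obtain ⟨h, hh, rfl⟩ := mem_pOrbit.1 hq
    exact mem_pOrbit.2 ⟨k * h, H.mul_mem hk hh, (conjPair_conjPair _ _ _).symm⟩
  · intro q _
    rw [conjPair_conjPair, mul_inv_cancel, conjPair_one]
  · intro q _
    rw [conjPair_conjPair, inv_mul_cancel, conjPair_one]
  · intro q _
    rw [pIdem_conjPair, inv_inv]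

/-- The orbit sum under `C(Q)` is fixed by anything centralizing `C(D)`. -/
theorem isInv_pSum_of_le {D R : Subgroup G} (hD : D.Normal) (hR : R ≤ D)
    {S : Finset (Cfsg.BrauerPairIdx G)} (hS : AllOn M D S) :
    IsInv (R : Set G) (pSum S) := by
  intro k hk x
  have hN : k ∈ Subgroup.normalizer (D : Set G) := by
    rw [Subgroup.normalizer_eq_top]; trivial
  by_cases hx : x ∈ CG[D]
  · rw [Subgroup.mem_centralizer_iff.1 hx k (hR hk), mul_inv_cancel_right]
  · rw [pSum_support hS hx,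
      pSum_support hS fun h => hx ((mem_centralizer_iff_of_mem_normalizer hN x).2 h)]

theorem omega_restrict_conv [Fintype G] {C D : Subgroup G} [Fintype C] (hDC : CG[D] ≤ C)
    {S T : Finset (Cfsg.BrauerPairIdx G)} (hS : AllOn M D S)
    (hSi : IsInv (C : Set G) (pSum S)) (hTi : IsInv (C : Set G) (pSum T))
    (χ : Cfsg.IrrCharacter C) :
    omega (χ : C → ℂ) (fun a : C => conv (pSum S) (pSum T) (a : G)) =
      omega (χ : C → ℂ) (fun a : C => pSum S (a : G)) *
        omega (χ : C → ℂ) (fun a : C => pSum T (a : G)) := by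
  rw [← omega_conv χ.2 hSi.isClassFunction_res hTi.isClassFunction_res]
  congr 1
  funext a
  exact conv_of_supported (fun g hg => pSum_support hS fun h => hg (hDC h)) a

open scoped Classical in
/-- The covering relation is passed down a normal step. -/
theorem cover_step (hM : Cfsg.IsPModular p M) [Fintype G] {a c b : Cfsg.BrauerPairIdx G}
    [Fintype CG[a.1]] [Fintype CG[c.1]]
    (hac : Cfsg.IsNormalSubpair p M a.1 a.2 c.1 c.2) (hb : Cfsg.IsPBlock M b.2)
    (hn : b.1.Normal) (hcb : c.1 ≤ b.1)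
    (hc : ∀ ξ ∈ c.2, omega (ξ : CG[c.1] → ℂ)
      (fun y : CG[c.1] => pSum (pOrbit CG[c.1] b) (y : G)) = 1) :
    ∀ ξ ∈ a.2, omega (ξ : CG[a.1] → ℂ)
      (fun y : CG[a.1] => pSum (pOrbit CG[a.1] b) (y : G)) = 1 := by
  obtain ⟨ha, hcP, hac1, hN, hst, hω⟩ := hac
  have hab : a.1 ≤ b.1 := hac1.trans hcb
  have hCb : CG[b.1] ≤ CG[c.1] := centralizer_mono hcb
  have hCa : CG[b.1] ≤ CG[a.1] := centralizer_mono hab
  have hCca : CG[c.1] ≤ CG[a.1] := centralizer_mono hac1
  set Sa := pOrbit CG[a.1] b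
  set Sc := pOrbit CG[c.1] b
  have hSa := allOn_pOrbit (M := M) hb hn CG[a.1]
  have hSc := allOn_pOrbit (M := M) hb hn CG[c.1]
  have hiaa : IsInv (CG[a.1] : Set G) (pSum Sa) := isInv_pSum_pOrbit _ _
  have hiac : IsInv (CG[c.1] : Set G) (pSum Sa) := hiaa.mono hCca
  have hsub : Sa ∩ Sc = Sc := Finset.inter_eq_right.2 (pOrbit_mono hCca b)
  -- idempotent
  have hidem : ∀ ξ : Cfsg.IrrCharacter CG[a.1],
      omega (ξ : CG[a.1] → ℂ) (fun y : CG[a.1] => pSum Sa (y : G)) = 0 ∨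
      omega (ξ : CG[a.1] → ℂ) (fun y : CG[a.1] => pSum Sa (y : G)) = 1 := by
    intro ξ
    have h := omega_restrict_conv hCa hSa hiaa hiaa ξ
    rw [conv_pSum hM hSa hSa, Finset.inter_self] at h
    rcases eq_or_ne (omega (ξ : CG[a.1] → ℂ) (fun y : CG[a.1] => pSum Sa (y : G))) 0 with h0 | h0
    · exact Or.inl h0
    · exact Or.inr (mul_left_cancel₀ h0 (by rw [← h, mul_one]))
  have hSaR := memLocalRing_pSum hM hSa
  obtain ⟨η, hη⟩ := IsPBlock.nonempty hM hcP.2
  have hSa1 : omega (η : CG[c.1] → ℂ) (fun y : CG[c.1] => pSum Sa (y : G)) = 1 := by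
    have h := omega_restrict_conv hCb (T := Sc) hSa hiac (isInv_pSum_pOrbit _ b) η
    rw [conv_pSum hM hSa hSc, hsub, hc η hη, mul_one] at h
    exact h.symm
  have hfi : IsInv (c.1 : Set G) (sbc CG[a.1] a.2) := isInv_of_stabilizes hM hN ha.2 hst
  have hfC : IsInv (CG[c.1] : Set G) (sbc CG[a.1] a.2) := isInv_sbc_centralizer hac1 a.2
  have hconv := brauerOmega_conv hM hcP.1 hfi (isInv_pSum_of_le hn hcb hSa) hfC hiac
    (memLocalRing_sbc hM ha.2) hSaR η
  rw [brauerOmega_eq, brauerOmega_eq (pSum Sa), hSa1, mul_one] at hconv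
  have hf1 := hω η hη
  -- the product is not zero
  have hne : ¬ ∀ y : CG[a.1],
      conv (sbc CG[a.1] a.2) (pSum Sa) (y : G) = 0 := by
    intro h0
    have hz : (fun y : CG[c.1] => conv (sbc CG[a.1] a.2) (pSum Sa) (y : G)) = 0 :=
      funext fun y => h0 ⟨y, hCca y.2⟩
    rw [hz, omega] at hconv
    simp only [Pi.zero_apply, zero_mul, Finset.sum_const_zero, zero_div] at hconv
    exact not_memLocalIdeal_one hM
      (by simpa using memLocalIdeal_neg (memLocalIdeal_add hM hconv hf1))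
  have hcl : Cfsg.IsClassFunction CG[a.1] fun y : CG[a.1] => sbc CG[a.1] a.2 (y : G) :=
    (isInv_sbc a.2).isClassFunction_res
  obtain ⟨ξ0, hξ0, hξ01⟩ : ∃ ξ0 ∈ a.2,
      omega (ξ0 : CG[a.1] → ℂ) (fun y : CG[a.1] => pSum Sa (y : G)) = 1 := by
    by_contra hno
    apply hne
    have heq : conv (fun y : CG[a.1] => sbc CG[a.1] a.2 (y : G))
        (fun y : CG[a.1] => pSum Sa (y : G)) = 0 := by
      refine classFun_ext_omega (isClassFunction_conv hcl hiaa.isClassFunction_res)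
        (fun _ _ => rfl) fun χ => ?_
      rw [omega_conv χ.2 hcl hiaa.isClassFunction_res,
        show omega (χ : CG[a.1] → ℂ) (0 : CG[a.1] → ℂ) = 0 by simp [omega]]
      by_cases hχ : χ ∈ a.2
      · rw [(hidem χ).resolve_right fun h => hno ⟨χ, hχ, h⟩, mul_zero]
      · simp only [sbc_apply]
        rw [omega_blockCoeff, if_neg hχ, zero_mul]
    intro y
    rw [conv_of_supported (fun g hg => sbc_of_notMem _ hg), heq]
    rfl
  intro ξ hξ
  refine (hidem ξ).resolve_left fun h0 => not_memLocalIdeal_one hM ?_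
  have h := brauerOmega_sameBlock hM hiaa hSaR ha.2 hξ0 hξ
  rwa [brauerOmega_eq, brauerOmega_eq, hξ01, h0, sub_zero] at h

open scoped Classical in
/-- A pair below a pair on a normal subgroup is covered by its orbit. -/
theorem cover (hM : Cfsg.IsPModular p M) [Fintype G] {b : Cfsg.BrauerPairIdx G}
    (hb : Cfsg.IsPBlock M b.2) (hn : b.1.Normal) :
    ∀ a : Cfsg.BrauerPairIdx G, PairLE p M a b → ∀ [Fintype CG[a.1]],
      ∀ ξ ∈ a.2, omega (ξ : CG[a.1] → ℂ)
        (fun y : CG[a.1] => pSum (pOrbit CG[a.1] b) (y : G)) = 1 := by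
  intro a h
  induction h using Relation.ReflTransGen.head_induction_on with
  | refl =>
    intro _ ξ hξ
    have hS : pOrbit CG[b.1] b = {b} := by
      ext q
      rw [mem_pOrbit, Finset.mem_singleton]
      exact ⟨fun ⟨c, hc, h⟩ => h ▸ conjPair_fix rfl hc,
        fun h => ⟨1, one_mem _, h ▸ conjPair_one b⟩⟩
    rw [hS, pSum, Finset.sum_singleton]
    simp only [pIdem, sbc_apply]
    rw [omega_blockCoeff, if_pos hξ]
  | @head a c hac hcb ih =>
    intro _
    letI := Fintype.ofFinite CG[c.1]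
    exact cover_step hM hac hb hn (BlockChar.le_of_subpairLE hcb) ih

/-- Two pairs on a normal subgroup above the same pair are conjugate under its centralizer. -/
theorem exists_conj_of_common (hM : Cfsg.IsPModular p M) {a b b' : Cfsg.BrauerPairIdx G}
    (ha : Cfsg.IsPBlock M a.2) (hb : Cfsg.IsPBlock M b.2) (hb' : Cfsg.IsPBlock M b'.2)
    (hn : b.1.Normal) (heq : b'.1 = b.1) (h : PairLE p M a b) (h' : PairLE p M a b') :
    ∃ c ∈ CG[a.1], conjPair c b' = b := by
  classical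
  have := Fintype.ofFinite G
  letI := Fintype.ofFinite CG[a.1]
  have hn' : b'.1.Normal := heq ▸ hn
  have hab : a.1 ≤ b.1 := BlockChar.le_of_subpairLE h
  obtain ⟨ξ, hξ⟩ := IsPBlock.nonempty hM ha
  have h1 := cover hM hb hn a h ξ hξ
  have h2 := cover hM hb' hn' a h' ξ hξ
  set S := pOrbit CG[a.1] b
  set S' := pOrbit CG[a.1] b'
  have hS := allOn_pOrbit (M := M) hb hn CG[a.1]
  have hS' : AllOn M b.1 S' := by
    have := allOn_pOrbit (M := M) hb' hn' CG[a.1]
    rw [heq] at this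
    exact this
  have h3 := omega_restrict_conv (centralizer_mono hab) hS (isInv_pSum_pOrbit _ b)
    (isInv_pSum_pOrbit _ b') ξ
  rw [conv_pSum hM hS hS', h1, h2, one_mul] at h3
  have hne : (S ∩ S').Nonempty := by
    rw [Finset.nonempty_iff_ne_empty]
    intro h0
    rw [h0] at h3
    simp [pSum, omega] at h3
  obtain ⟨q, hq⟩ := hne
  obtain ⟨hq1, hq2⟩ := Finset.mem_inter.1 hq
  obtain ⟨c, hc, rfl⟩ := mem_pOrbit.1 hq1
  obtain ⟨d, hd, hde⟩ := mem_pOrbit.1 hq2
  refine ⟨c⁻¹ * d, mul_mem (inv_mem hc) hd, ?_⟩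
  rw [← conjPair_conjPair, hde, conjPair_conjPair, inv_mul_cancel, conjPair_one]

/-- A conjugation between pairs below `b` extends to a conjugation fixing `b`. -/
theorem exists_fixing_extend (hM : Cfsg.IsPModular p M) {a b : Cfsg.BrauerPairIdx G}
    (hb : Cfsg.IsPBlock M b.2) (hn : b.1.Normal) (ha : Cfsg.IsPBlock M a.2)
    (h : PairLE p M a b) {x : G} (hx : PairLE p M (conjPair x a) b) :
    ∃ y : G, conjPair y b = b ∧ ∀ q ∈ a.1, y * q * y⁻¹ = x * q * x⁻¹ := by
  obtain ⟨c, hc, hcb⟩ := exists_conj_of_common hM (isPBlock_conjPair ha x) hb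
    (isPBlock_conjPair hb x) hn (conjPair_fst_of_normal hn x) hx (le_conjPair hM h x)
  refine ⟨c * x, by rw [← conjPair_conjPair, hcb], fun q hq => ?_⟩
  have hm : x * q * x⁻¹ ∈ (conjPair x a).1 := ⟨q, hq, rfl⟩
  rw [show c * x * q * (c * x)⁻¹ = c * (x * q * x⁻¹) * c⁻¹ by group,
    ← Subgroup.mem_centralizer_iff.1 hc _ hm, mul_inv_cancel_right]

/-- The block is nilpotent when the stabilizer of the top pair acts on it by inner
automorphisms. -/
theorem nilpotent_of_stabilizer (hM : Cfsg.IsPModular p M) {B : Set (Cfsg.IrrCharacter G)}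
    {D : Subgroup G} {e : Set (Cfsg.IrrCharacter CG[D])}
    (hmax : Cfsg.IsMaximalBrauerPair p M B D e) (hn : D.Normal)
    (hst : ∀ x : G, Cfsg.StabilizesBlock CG[D] e x → Cfsg.IsPRegular p x → x ∈ CG[D]) :
    Cfsg.IsNilpotentBlock p M B := by
  haveI := Fact.mk hM.1
  obtain ⟨F, hF⟩ := exists_isBlockFusionSystemOn hM hmax
  refine nilpotent_of_hom_eq_inner hM hF fun Q φ hφ => ?_
  obtain ⟨hQ, g, hg, -, f, hf, hfg⟩ := (hF.2 Q φ).1 hφ
  have hfB : Cfsg.IsPBlock M f := (isBrauerPair_of_subpairLE hmax.1.1 hf).2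
  obtain ⟨y, hy, hyv⟩ := exists_fixing_extend hM (a := ⟨Q, f⟩) (b := ⟨D, e⟩) hmax.1.1.2 hn
    hfB hf hfg
  have hfix := fun k : ℕ => conjPair_pow_fixed (a := (⟨D, e⟩ : Cfsg.BrauerPairIdx G)) hy k
  have hs : pPrimePartOf p y ∈ CG[D] := by
    obtain ⟨h1, h2⟩ := (conjPair_eq_iff hM hmax.1.1.2 _).1 (hfix (pPrimeExp p (orderOf y)))
    exact hst _ h2 (not_dvd_orderOf_pPrimePartOf hM.1 y)
  obtain ⟨k, hk⟩ : ∃ n : ℕ, y ^ n = pPartOf p y := ⟨_, rfl⟩
  obtain ⟨h1, h2⟩ := (conjPair_eq_iff hM hmax.1.1.2 _).1 (hfix k)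
  rw [hk] at h1 h2
  have hu := mem_sup_of_maximal hM hmax h1 h2 (orderOf_pPartOf hM.1 y)
  rw [sup_comm] at hu
  have hu' : pPartOf p y ∈ ((CG[D] ⊔ D : Subgroup G) : Set G) := hu
  rw [Subgroup.coe_mul_of_right_le_normalizer_left _ _
    (fun d _ => by
      have : (CG[D]).Normal := inferInstance
      rw [Subgroup.normalizer_eq_top]; trivial)] at hu'
  obtain ⟨c, hc, d, hd, hcd⟩ := Set.mem_mul.1 hu'
  -- `y = c d s` with `c, s` centralizing `D`
  refine ⟨hQ, d, hd, fun u => ?_⟩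
  have huD : (u : G) ∈ D := hQ u.2
  rw [hg, ← hyv u u.2]
  conv_lhs => rw [← pPartOf_mul_pPrimePartOf hM.1 y, ← hcd]
  have hdu : d * (u : G) * d⁻¹ ∈ D := mul_mem (mul_mem hd huD) (inv_mem hd)
  calc c * d * pPrimePartOf p y * u * (c * d * pPrimePartOf p y)⁻¹
      = c * (d * (pPrimePartOf p y * u * (pPrimePartOf p y)⁻¹) * d⁻¹) * c⁻¹ := by group
    _ = c * (d * u * d⁻¹) * c⁻¹ := by
        rw [← Subgroup.mem_centralizer_iff.1 hs u huD, mul_inv_cancel_right]
    _ = d * u * d⁻¹ := by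
        rw [← Subgroup.mem_centralizer_iff.1 hc _ hdu, mul_inv_cancel_right]

end Cfsg.Agent.Blocks.NormalDefect
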