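import Cfsg.Agent.Blocks.NormalDefect.Reduction
import Cfsg.Agent.ProjExt.Ratio
import Cfsg.Agent.BrauerPairs.MaximalCriterion
import Cfsg.Agent.BrauerPairs.NormalPSub

/-!
# Degrees of the characters of a block over a normal defect group
-/

set_option autoImplicit false

namespace Cfsg.Agent.Blocks.NormalDefect

open Cfsg.Agent Cfsg.Agent.Blocks Cfsg.Agent.BrauerPairs

universe u

variable {G : Type u} [Group G] [Finite G] {p : ℕ} {M : Ideal Cfsg.AlgInt}

local notation "CG[" Q "]" => Subgroup.centralizer (SetLike.coe Q)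
local notation "sbc" => Cfsg.subgroupBlockCoeff

theorem charDegree_inflate (N : Subgroup G) [N.Normal] (θ : Cfsg.IrrCharacter (G ⧸ N)) :
    Cfsg.charDegree ((θ : G ⧸ N → ℂ) ∘ QuotientGroup.mk : G → ℂ) =
      Cfsg.charDegree (θ : G ⧸ N → ℂ) := by
  refine charDegree_eq ?_
  rw [Function.comp_apply, QuotientGroup.mk_one]
  exact (CharArith.irr_degree_spec θ).1

/-- Itô's bound, for characters. -/
theorem charDegree_dvd_index (A : Subgroup G) [A.Normal] (hA : ∀ a ∈ A, ∀ b ∈ A, a * b = b * a)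
    (χ : Cfsg.IrrCharacter G) : Cfsg.charDegree (χ : G → ℂ) ∣ A.index := by
  classical
  have := Fintype.ofFinite G
  have := Fintype.ofFinite A
  obtain ⟨φ, hφ⟩ := Char.exists_constituent_res (N := A) χ.2
  have h1 : (φ : A → ℂ) 1 = 1 :=
    Char.forall_degree_one_iff.2 (fun a b => Subtype.ext (hA a a.2 b b.2)) φ
  obtain ⟨k, hk, hd⟩ := ProjExt.exists_ratio_dvd_index χ.2 φ.2 hφ
  rw [h1, mul_one] at hk
  rw [charDegree_eq hk]
  exact hd

/-- The least valuation of a degree in a block is that of the index of a defect group. -/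
theorem minVal_eq_index (hM : Cfsg.IsPModular p M) {B : Set (Cfsg.IrrCharacter G)}
    (hB : Cfsg.IsPBlock M B) {D : Subgroup G} (hD : Cfsg.IsDefectGroup p M B D) :
    BlockChar.minVal p B = D.index.factorization p := by
  obtain ⟨χ, hχ⟩ := IsPBlock.nonempty hM hB
  have h1 := BlockChar.minVal_le (p := p) hχ
  have h2 : (Cfsg.charDegree (χ : G → ℂ)).factorization p ≤ (Nat.card G).factorization p :=
    (Nat.factorization_le_iff_dvd (CharArith.irr_degree_spec χ).2.ne' Nat.card_pos.ne').2
      (Char.IsIrr.degree_dvd_card χ.2 (CharArith.irr_degree_spec χ).1) p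
  have h3 : (Nat.card D).factorization p + D.index.factorization p =
      (Nat.card G).factorization p := by
    rw [← Finsupp.add_apply, ← Nat.factorization_mul Nat.card_pos.ne'
      Subgroup.index_ne_zero_of_finite, Subgroup.card_mul_index]
  rw [BlockChar.card_defectGroup hM hB hD, hM.1.factorization_pow, Finsupp.single_eq_same,
    BlockChar.blockDefect_eq] at h3
  omega

/-- An inflated character of a degree dividing the index of the defect group has height zero. -/
theorem height_zero_of_dvd (hM : Cfsg.IsPModular p M) {B : Set (Cfsg.IrrCharacter G)}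
    (hB : Cfsg.IsPBlock M B) {D : Subgroup G} (hD : Cfsg.IsDefectGroup p M B D)
    {χ : Cfsg.IrrCharacter G} (h : Cfsg.charDegree (χ : G → ℂ) ∣ D.index) :
    Cfsg.blockHeight p B (χ : G → ℂ) = 0 := by
  rw [BlockChar.blockHeight_eq, minVal_eq_index hM hB hD, Nat.sub_eq_zero_iff_le]
  exact (Nat.factorization_le_iff_dvd (CharArith.irr_degree_spec χ).2.ne'
    Subgroup.index_ne_zero_of_finite).2 h p

/-- A character of a quotient with a degree of full valuation is alone in its block. -/
theorem blockOf_eq_singleton_of_val (hM : Cfsg.IsPModular p M) (χ : Cfsg.IrrCharacter G)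
    (h : (Nat.card G).factorization p ≤ (Cfsg.charDegree (χ : G → ℂ)).factorization p) :
    Cfsg.blockOf M (χ : G → ℂ) = {χ} := by
  refine BlockThms.blockOf_eq_singleton hM χ fun hd => ?_
  obtain ⟨hc, hpos⟩ := CharArith.irr_degree_spec χ
  obtain ⟨c, hc'⟩ := Char.IsIrr.degree_dvd_card χ.2 hc
  rw [hc', Nat.mul_div_cancel_left _ hpos] at hd
  have hc0 : c ≠ 0 := fun e => by
    rw [e, mul_zero] at hc'
    exact Nat.card_pos.ne' hc'
  rw [hc', Nat.factorization_mul hpos.ne' hc0, Finsupp.add_apply] at h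
  have := hM.1.factorization_pos_of_dvd hc0 hd
  omega

/-- The idempotent of a pair on a normal subgroup lies under that of its block. -/
theorem conv_blockCoeff_sbc (hM : Cfsg.IsPModular p M) [Fintype G]
    {B : Set (Cfsg.IrrCharacter G)} {D : Subgroup G} [D.Normal]
    {e : Set (Cfsg.IrrCharacter CG[D])} (he : Cfsg.IsBrauerPairOf p M B D e) :
    conv (Cfsg.blockCoeff B) (sbc CG[D] e) = sbc CG[D] e := by
  classical
  letI := Fintype.ofFinite (PBlock M CG[D])
  rw [blockCoeff_eq_orbitIdem hM he]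
  simp only [orbitIdem]
  funext z
  simp only [conv, Finset.sum_apply, Finset.sum_mul]
  rw [Finset.sum_comm, Finset.sum_eq_single (⟨e, he.1.2⟩ : PBlock M CG[D])]
  · exact congrFun (conv_sbc_self e) z
  · intro f _ hne
    have hd : Disjoint f.1 e := Set.disjoint_left.2 fun ξ h h' =>
      hne (Subtype.ext (eq_of_mem hM f.2 he.1.2 h h'))
    exact congrFun (conv_sbc_disjoint hd) z
  · intro h
    refine absurd (Finset.mem_filter.2 ⟨Finset.mem_univ _, 1, one_mem _, fun g => ?_⟩) h
    simp

/-- The block of the top pair has one character trivial on the centre. -/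
theorem inflSet_centre_eq (hM : Cfsg.IsPModular p M) {B : Set (Cfsg.IrrCharacter G)}
    {D : Subgroup G} {e : Set (Cfsg.IrrCharacter CG[D])}
    (hmax : Cfsg.IsMaximalBrauerPair p M B D e) [(D.subgroupOf CG[D]).Normal] :
    ∃ θ : Cfsg.IrrCharacter (CG[D] ⧸ D.subgroupOf CG[D]),
      inflSet (D.subgroupOf CG[D]) e = {θ} ∧
        Cfsg.blockOf M (θ : CG[D] ⧸ D.subgroupOf CG[D] → ℂ) = {θ} := by
  classical
  haveI := Fact.mk hM.1
  have he := hmax.1.1.2
  set Z := D.subgroupOf CG[D]
  have hZ : IsPGroup p Z := hmax.1.1.1.comap_of_injective _ (Subgroup.subtype_injective _)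
  obtain ⟨χ, hχ, htriv, -⟩ := exists_character_of_maximal hM hmax
  obtain ⟨φ, hφ, hφχ⟩ := Char.IsIrr.exists_quotient Z χ.2
    (fun n hn => htriv n (Subgroup.mem_subgroupOf.1 hn))
  have hmem : (⟨φ, hφ⟩ : Cfsg.IrrCharacter (CG[D] ⧸ Z)) ∈ inflSet Z e := by
    show (⟨φ ∘ QuotientGroup.mk, _⟩ : Cfsg.IrrCharacter CG[D]) ∈ e
    convert hχ using 1
    exact Subtype.ext (funext hφχ).symm
  have hsing : ∀ η ∈ inflSet Z e, Cfsg.blockOf M (η : CG[D] ⧸ Z → ℂ) = {η} := by
    intro η hη
    refine blockOf_eq_singleton_of_val hM η ?_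
    have h1 := BlockChar.minVal_le (p := p)
      (show (⟨(η : CG[D] ⧸ Z → ℂ) ∘ QuotientGroup.mk, Char.isIrrCharacter_mk Z η.2⟩ :
        Cfsg.IrrCharacter CG[D]) ∈ e from hη)
    rw [charDegree_inflate] at h1
    have h2 := blockDefect_le_of_maximal hM hmax
    rw [BlockChar.blockDefect_eq, ← card_inter_centralizer] at h2
    change _ ≤ (Nat.card Z).factorization p at h2
    have h3 := congrArg (fun n => n.factorization p)
      (Subgroup.card_eq_card_quotient_mul_card_subgroup Z)
    simp only [Nat.factorization_mul Nat.card_pos.ne' Nat.card_pos.ne', Finsupp.add_apply] at h3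
    omega
  refine ⟨⟨φ, hφ⟩, Set.eq_singleton_iff_unique_mem.2 ⟨hmem, fun η hη => ?_⟩, hsing _ hmem⟩
  have hC : Subgroup.centralizer (Z : Set CG[D]) = ⊤ := by
    rw [eq_top_iff]
    intro c _
    exact Subgroup.mem_centralizer_iff.2 fun z hz => (commute_of_mem_subgroupOf hz c).eq
  have hsame := (BlockThms.sameBlock_quotient_iff Z hM hZ ⟨0, by rw [hC, Subgroup.index_top, pow_zero]⟩
    ⟨φ, hφ⟩ η).2 (IsPBlock.sameBlock hM he
      (show (⟨φ ∘ QuotientGroup.mk, Char.isIrrCharacter_mk Z hφ⟩ : Cfsg.IrrCharacter CG[D]) ∈ e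
        from hmem)
      (show (⟨(η : CG[D] ⧸ Z → ℂ) ∘ QuotientGroup.mk, Char.isIrrCharacter_mk Z η.2⟩ :
        Cfsg.IrrCharacter CG[D]) ∈ e from hη))
  have h := mem_blockOf.2 hsame
  rw [hsing _ hmem] at h
  exact h

end Cfsg.Agent.Blocks.NormalDefect
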