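import Cfsg.Agent.BlockChar.SylowFree

/-!
# The kernel of the reduction along a p-group, and derivations on it

For a surjection `π : H → Q` and an additive function `f` on its kernel there is a linear map on
the group algebra of `H` sending `(a - 1) g` to `f a • π g`; on the kernel of the reduction it
commutes with multiplication from the right.
-/

set_option autoImplicit false

namespace Cfsg.Agent.Blocks.NormalDefect

universe u v w

variable (k : Type w) [Field k] {H : Type u} [Group H] {Q : Type v} [Group Q] (π : H →* Q)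

/-- The map of group algebras. -/
noncomputable def mapAlg : MonoidAlgebra k H →ₐ[k] MonoidAlgebra k Q :=
  MonoidAlgebra.mapDomainAlgHom k k π

theorem mapAlg_of (g : H) :
    mapAlg k π (MonoidAlgebra.of k H g) = MonoidAlgebra.of k Q (π g) := by
  refine MonoidAlgebra.coeff_injective ?_
  show Finsupp.mapDomain π (MonoidAlgebra.of k H g).coeff = _
  simp [MonoidAlgebra.of_apply, Finsupp.mapDomain_single]

theorem coeff_mapAlg [Fintype H] [DecidableEq Q] (x : MonoidAlgebra k H) (q : Q) :
    (mapAlg k π x).coeff q = ∑ g : H, if π g = q then x.coeff g else 0 := by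
  classical
  show Finsupp.mapDomain π x.coeff q = _
  rw [Finsupp.mapDomain, Finsupp.sum_fintype _ _ (fun _ => by simp), Finsupp.finsetSum_apply]
  exact Finset.sum_congr rfl fun g _ => by rw [Finsupp.single_apply]

variable {π} (hπ : Function.Surjective π)

theorem mapAlg_surjective (hπ : Function.Surjective π) : Function.Surjective (mapAlg k π) :=
  fun y => by
  induction y using MonoidAlgebra.induction_on with
  | of q =>
    obtain ⟨g, rfl⟩ := hπ q
    exact ⟨_, mapAlg_of k π g⟩
  | add a b ha hb =>
    obtain ⟨a', rfl⟩ := ha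
    obtain ⟨b', rfl⟩ := hb
    exact ⟨a' + b', map_add _ _ _⟩
  | smul r a ha =>
    obtain ⟨a', rfl⟩ := ha
    exact ⟨r • a', map_smul _ _ _⟩

/-- A section of `π`. -/
noncomputable def sec (q : Q) : H := Function.surjInv hπ q

theorem pi_sec (q : Q) : π (sec hπ q) = q := Function.surjInv_eq hπ q

/-- The component in the kernel. -/
noncomputable def adj (g : H) : π.ker :=
  ⟨g * (sec hπ (π g))⁻¹, by
    rw [MonoidHom.mem_ker, map_mul, map_inv, pi_sec, mul_inv_cancel]⟩

theorem adj_mul_sec (g : H) : (adj hπ g : H) * sec hπ (π g) = g := by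
  simp [adj]

theorem adj_ker_mul (a : π.ker) (g : H) : adj hπ ((a : H) * g) = a * adj hπ g := by
  refine Subtype.ext ?_
  have ha : π (a : H) = 1 := a.2
  show (a : H) * g * (sec hπ (π ((a : H) * g)))⁻¹ = (a : H) * (g * (sec hπ (π g))⁻¹)
  rw [map_mul, ha, one_mul, mul_assoc]

variable [Fintype H]

theorem expand (x : MonoidAlgebra k H) :
    x = ∑ g : H, x.coeff g • MonoidAlgebra.of k H g := by
  classical
  refine MonoidAlgebra.coeff_injective (Finsupp.ext fun z => ?_)
  rw [MonoidAlgebra.coeff_sum, Finsupp.finsetSum_apply]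
  simp [MonoidAlgebra.of_apply, Finsupp.single_apply]

include hπ in
/-- An element killed by the reduction is made of the `(a - 1) g`. -/
theorem ker_expand {x : MonoidAlgebra k H} (hx : mapAlg k π x = 0) :
    x = ∑ g : H, x.coeff g • ((MonoidAlgebra.of k H (adj hπ g : H) - 1) *
      MonoidAlgebra.of k H (sec hπ (π g))) := by
  classical
  have h0 : ∑ g : H, x.coeff g • MonoidAlgebra.of k H (sec hπ (π g)) = 0 := by
    let L := MonoidAlgebra.mapDomainLinearMap k k (fun q : Q => sec hπ q)
    have h1 : L (mapAlg k π x) = 0 := by rw [hx, map_zero]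
    conv_lhs at h1 => rw [expand k x, map_sum, map_sum]
    rw [← h1]
    refine Finset.sum_congr rfl fun g _ => ?_
    rw [map_smul, map_smul, mapAlg_of]
    congr 1
    refine MonoidAlgebra.coeff_injective ?_
    rw [MonoidAlgebra.coeff_mapDomainLinearMap]
    simp [MonoidAlgebra.of_apply, Finsupp.mapDomain_single]
  conv_lhs => rw [expand k x, ← sub_zero (∑ g : H, _), ← h0, ← Finset.sum_sub_distrib]
  refine Finset.sum_congr rfl fun g _ => ?_
  rw [sub_mul, one_mul, ← map_mul, adj_mul_sec, smul_sub]

include hπ in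
/-- Linear maps agreeing on the `(a - 1) g` agree on the kernel. -/
theorem ext_on_ker {E : Type*} [AddCommGroup E] [Module k E]
    (Φ Ψ : MonoidAlgebra k H →ₗ[k] E)
    (h : ∀ (a : π.ker) (g : H), Φ ((MonoidAlgebra.of k H (a : H) - 1) * MonoidAlgebra.of k H g) =
      Ψ ((MonoidAlgebra.of k H (a : H) - 1) * MonoidAlgebra.of k H g))
    {x : MonoidAlgebra k H} (hx : mapAlg k π x = 0) : Φ x = Ψ x := by
  rw [ker_expand k hπ hx, map_sum, map_sum]
  exact Finset.sum_congr rfl fun g _ => by rw [map_smul, map_smul, h]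

/-- The derivation of an additive function on the kernel. -/
noncomputable def derivMap (f : π.ker → k) : MonoidAlgebra k H →ₗ[k] MonoidAlgebra k Q where
  toFun x := ∑ g : H, (x.coeff g * f (adj hπ g)) • MonoidAlgebra.of k Q (π g)
  map_add' x y := by simp [add_mul, add_smul, Finset.sum_add_distrib]
  map_smul' c x := by simp [Finset.smul_sum, mul_assoc, smul_smul]

theorem derivMap_of (f : π.ker → k) (g : H) :
    derivMap k hπ f (MonoidAlgebra.of k H g) = f (adj hπ g) • MonoidAlgebra.of k Q (π g) := by
  classical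
  show ∑ h : H, _ = _
  rw [Finset.sum_eq_single g]
  · simp [MonoidAlgebra.of_apply]
  · intro h _ hne
    simp [MonoidAlgebra.of_apply, hne]
  · simp

theorem coeff_derivMap [DecidableEq Q] (f : π.ker → k) (x : MonoidAlgebra k H) (q : Q) :
    (derivMap k hπ f x).coeff q =
      ∑ g : H, if π g = q then x.coeff g * f (adj hπ g) else 0 := by
  classical
  show (∑ g : H, (x.coeff g * f (adj hπ g)) • MonoidAlgebra.of k Q (π g)).coeff q = _
  rw [MonoidAlgebra.coeff_sum, Finsupp.finsetSum_apply]
  refine Finset.sum_congr rfl fun g _ => ?_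
  split_ifs with h
  · subst h; simp [MonoidAlgebra.of_apply]
  · simp [MonoidAlgebra.of_apply, Finsupp.single_apply, h]

variable {f : π.ker → k} (hf : ∀ a b : π.ker, f (a * b) = f a + f b)
include hf

theorem derivMap_basic (a : π.ker) (g : H) :
    derivMap k hπ f ((MonoidAlgebra.of k H (a : H) - 1) * MonoidAlgebra.of k H g) =
      f a • MonoidAlgebra.of k Q (π g) := by
  have ha : π (a : H) = 1 := a.2
  rw [sub_mul, one_mul, map_sub, ← map_mul (MonoidAlgebra.of k H), derivMap_of, derivMap_of,
    adj_ker_mul, hf, map_mul π, ha, one_mul, add_smul, add_sub_cancel_right]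

theorem derivMap_sub_one_mul (a : π.ker) (x : MonoidAlgebra k H) :
    derivMap k hπ f ((MonoidAlgebra.of k H (a : H) - 1) * x) = f a • mapAlg k π x := by
  induction x using MonoidAlgebra.induction_on with
  | of g => rw [derivMap_basic k hπ hf, mapAlg_of]
  | add x y hx hy => rw [mul_add, map_add, map_add, hx, hy, smul_add]
  | smul r x hx => rw [mul_smul_comm, map_smul, map_smul, hx, smul_comm]

/-- On the kernel the derivation commutes with multiplication from the right. -/
theorem derivMap_mul {x : MonoidAlgebra k H} (hx : mapAlg k π x = 0) (r : MonoidAlgebra k H) :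
    derivMap k hπ f (x * r) = derivMap k hπ f x * mapAlg k π r :=
  ext_on_ker k hπ (derivMap k hπ f ∘ₗ LinearMap.mulRight k r)
    (LinearMap.mulRight k (mapAlg k π r) ∘ₗ derivMap k hπ f) (fun a g => by
      show derivMap k hπ f (_ * r) = derivMap k hπ f _ * mapAlg k π r
      rw [mul_assoc, derivMap_sub_one_mul k hπ hf, derivMap_basic k hπ hf, map_mul, mapAlg_of,
        smul_mul_assoc]) hx

omit [Fintype H] hf in
/-- The function transported by conjugation. -/
theorem conj_ker_mem (g : H) (a : π.ker) : g * (a : H) * g⁻¹ ∈ π.ker :=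
  (MonoidHom.normal_ker π).conj_mem _ a.2 g

/-- The derivation of a conjugate. -/
theorem derivMap_conj (g : H) (f' : π.ker → k)
    (hf' : ∀ a : π.ker, f' a = f ⟨g * (a : H) * g⁻¹, conj_ker_mem g a⟩)
    {x : MonoidAlgebra k H} (hx : mapAlg k π x = 0) :
    derivMap k hπ f (MonoidAlgebra.of k H g * x * MonoidAlgebra.of k H g⁻¹) =
      MonoidAlgebra.of k Q (π g) * derivMap k hπ f' x * MonoidAlgebra.of k Q (π g)⁻¹ := by
  have hf'a : ∀ a b : π.ker, f' (a * b) = f' a + f' b := fun a b => by
    rw [hf', hf', hf', ← hf]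
    congr 1
    exact Subtype.ext (by simp [mul_assoc])
  refine ext_on_ker k hπ
    (derivMap k hπ f ∘ₗ LinearMap.mulRight k (MonoidAlgebra.of k H g⁻¹) ∘ₗ
      LinearMap.mulLeft k (MonoidAlgebra.of k H g))
    (LinearMap.mulRight k (MonoidAlgebra.of k Q (π g)⁻¹) ∘ₗ
      LinearMap.mulLeft k (MonoidAlgebra.of k Q (π g)) ∘ₗ derivMap k hπ f') (fun a t => ?_) hx
  show derivMap k hπ f (MonoidAlgebra.of k H g * _ * MonoidAlgebra.of k H g⁻¹) =
    MonoidAlgebra.of k Q (π g) * derivMap k hπ f' _ * MonoidAlgebra.of k Q (π g)⁻¹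
  rw [derivMap_basic k hπ hf'a, hf', mul_smul_comm, smul_mul_assoc, ← map_inv π, ← mapAlg_of,
    ← mapAlg_of k π t, ← mapAlg_of, ← map_mul, ← map_mul, ← derivMap_sub_one_mul k hπ hf]
  congr 1
  simp only [sub_mul, mul_sub, one_mul, ← map_mul]
  congr 2 <;> group

omit hf hπ in
/-- In characteristic `p` the kernel of the reduction along a p-group is in the radical. -/
theorem mem_jacobson_of_ker {p : ℕ} [Fact p.Prime] [CharP k p] (hπ : Function.Surjective π)
    (hker : IsPGroup p π.ker) {x : MonoidAlgebra k H} (hx : mapAlg k π x = 0) :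
    x ∈ Ring.jacobson (MonoidAlgebra k H) := by
  classical
  rw [Ring.jacobson_eq_sInf_isMaximal]
  refine Submodule.mem_sInf.2 fun m (hm : Ideal.IsMaximal m) => ?_
  have : IsSimpleModule (MonoidAlgebra k H) (MonoidAlgebra k H ⧸ m) :=
    isSimpleModule_iff_isCoatom.2 hm.out
  let act : π.ker →* Module.End k (MonoidAlgebra k H ⧸ m) :=
    (Algebra.lsmul k k (MonoidAlgebra k H ⧸ m)).toMonoidHom.comp
      ((MonoidAlgebra.of k H).comp π.ker.subtype)
  have hact : ∀ (a : π.ker) (q : MonoidAlgebra k H ⧸ m),
      act a q = MonoidAlgebra.of k H (a : H) • q := fun _ _ => rfl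
  let Fx : Submodule (MonoidAlgebra k H) (MonoidAlgebra k H ⧸ m) :=
    { carrier := {q | ∀ a : π.ker, MonoidAlgebra.of k H (a : H) • q = q}
      add_mem' := fun {q r} hq hr a => by rw [smul_add, hq a, hr a]
      zero_mem' := fun a => smul_zero _
      smul_mem' := fun r q hq a => by
        induction r using MonoidAlgebra.induction_on with
        | of g =>
          have h := hq ⟨g⁻¹ * (a : H) * g, by
            have := conj_ker_mem g⁻¹ a
            rwa [inv_inv] at this⟩
          conv_rhs => rw [← h]
          rw [← mul_smul, ← mul_smul, ← map_mul, ← map_mul]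
          congr 2
          group
        | add r r' hr hr' => rw [add_smul, smul_add, hr, hr']
        | smul c r hr => rw [smul_assoc, smul_comm, hr] }
  have : Nontrivial (MonoidAlgebra k H ⧸ m) := IsSimpleModule.nontrivial (MonoidAlgebra k H) _
  obtain ⟨v, hv⟩ := exists_ne (0 : MonoidAlgebra k H ⧸ m)
  have := Fintype.ofFinite π.ker
  obtain ⟨q, -, hq0, hq⟩ := BlockChar.SylowFree.exists_fixed (k := k) hker act (K := ⊤)
    (fun _ _ _ => trivial) (v := v) trivial hv
  have hFx : Fx = ⊤ := (IsSimpleOrder.eq_bot_or_eq_top Fx).resolve_left fun h =>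
    hq0 (by
      have : q ∈ Fx := fun a => (hact a q).symm.trans (hq a)
      rwa [h, Submodule.mem_bot] at this)
  have h1 : x • (Submodule.Quotient.mk 1 : MonoidAlgebra k H ⧸ m) = 0 := by
    rw [ker_expand k hπ hx, Finset.sum_smul]
    refine Finset.sum_eq_zero fun g _ => ?_
    rw [smul_assoc, mul_smul, sub_smul, one_smul]
    have hm' : MonoidAlgebra.of k H (sec hπ (π g)) •
        (Submodule.Quotient.mk 1 : MonoidAlgebra k H ⧸ m) ∈ Fx := by rw [hFx]; trivial
    rw [hm' (adj hπ g), sub_self, smul_zero]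
  rw [← Submodule.Quotient.mk_smul, smul_eq_mul, mul_one] at h1
  exact (Submodule.Quotient.mk_eq_zero m).1 h1

end Cfsg.Agent.Blocks.NormalDefect
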