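import Cfsg.Agent.Blocks.NormalDefect.Derivation
import Cfsg.Agent.BlockChar.DerivedQuotient

/-!
# The abelian kernel of `G ⧸ [D, D] → G ⧸ D`
-/

set_option autoImplicit false

namespace Cfsg.Agent.Blocks.NormalDefect

open scoped commutatorElement

universe u v w

attribute [local instance] Ideal.Quotient.field

variable {G : Type u} [Group G]

/-- The projection from the quotient by the derived subgroup of `D` to the quotient by `D`. -/
def toTop (D : Subgroup G) [D.Normal] : G ⧸ ⁅D, D⁆ →* G ⧸ D :=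
  QuotientGroup.map ⁅D, D⁆ D (MonoidHom.id G) (Subgroup.commutator_le_right D D)

variable (D : Subgroup G) [D.Normal]

theorem toTop_mk (g : G) : toTop D (g : G ⧸ ⁅D, D⁆) = (g : G ⧸ D) := rfl

theorem toTop_surjective : Function.Surjective (toTop D) := fun q => by
  obtain ⟨g, rfl⟩ := QuotientGroup.mk_surjective q
  exact ⟨_, toTop_mk D g⟩

theorem index_ker_toTop : (toTop D).ker.index = D.index := by
  rw [Subgroup.index_ker, MonoidHom.range_eq_top.2 (toTop_surjective D), Subgroup.card_top]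
  rfl

theorem mk_mem_ker_toTop {g : G} (hg : g ∈ D) : (g : G ⧸ ⁅D, D⁆) ∈ (toTop D).ker := by
  rw [MonoidHom.mem_ker, toTop_mk]
  exact (QuotientGroup.eq_one_iff g).2 hg

theorem exists_of_mem_ker_toTop (a : (toTop D).ker) :
    ∃ g ∈ D, (g : G ⧸ ⁅D, D⁆) = (a : G ⧸ ⁅D, D⁆) := by
  obtain ⟨g, hg⟩ := QuotientGroup.mk_surjective (a : G ⧸ ⁅D, D⁆)
  have h : toTop D (a : G ⧸ ⁅D, D⁆) = 1 := a.2
  rw [← hg, toTop_mk, QuotientGroup.eq_one_iff] at h
  exact ⟨g, h, hg⟩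

theorem ker_toTop_comm (a b : (toTop D).ker) : a * b = b * a := by
  obtain ⟨g, hg, hga⟩ := exists_of_mem_ker_toTop D a
  obtain ⟨h, hh, hhb⟩ := exists_of_mem_ker_toTop D b
  refine Subtype.ext ?_
  show (a : G ⧸ ⁅D, D⁆) * b = b * a
  rw [← hga, ← hhb, ← QuotientGroup.mk_mul, ← QuotientGroup.mk_mul]
  refine QuotientGroup.eq.2 ?_
  rw [show (g * h)⁻¹ * (h * g) = ⁅h⁻¹, g⁻¹⁆ by rw [commutatorElement_def]; group]
  exact Subgroup.commutator_mem_commutator (inv_mem hh) (inv_mem hg)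

theorem isPGroup_ker_toTop {p : ℕ} (hDp : IsPGroup p D) : IsPGroup p (toTop D).ker := fun a => by
  obtain ⟨g, hg, hga⟩ := exists_of_mem_ker_toTop D a
  obtain ⟨j, hj⟩ := hDp ⟨g, hg⟩
  refine ⟨j, Subtype.ext ?_⟩
  show (a : G ⧸ ⁅D, D⁆) ^ (p ^ j) = 1
  rw [← hga, ← QuotientGroup.mk_pow, show g ^ (p ^ j) = 1 from congrArg Subtype.val hj]
  rfl

theorem conj_ker_toTop_of_mem_sup {u : G} (hu : u ∈ D ⊔ Subgroup.centralizer (D : Set G))
    (a : (toTop D).ker) :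
    (u : G ⧸ ⁅D, D⁆) * (a : G ⧸ ⁅D, D⁆) * (u : G ⧸ ⁅D, D⁆)⁻¹ = a := by
  have hle : D ⊔ Subgroup.centralizer (D : Set G) ≤
      (Subgroup.centralizer ((toTop D).ker : Set (G ⧸ ⁅D, D⁆))).comap
        (QuotientGroup.mk' ⁅D, D⁆) := by
    refine sup_le (fun g hg => Subgroup.mem_centralizer_iff.2 fun b hb => ?_)
      fun g hg => Subgroup.mem_centralizer_iff.2 fun b hb => ?_
    · exact congrArg Subtype.val (ker_toTop_comm D ⟨b, hb⟩ ⟨_, mk_mem_ker_toTop D hg⟩)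
    · obtain ⟨h, hh, hhb⟩ := exists_of_mem_ker_toTop D ⟨b, hb⟩
      show b * (g : G ⧸ ⁅D, D⁆) = (g : G ⧸ ⁅D, D⁆) * b
      rw [show b = (h : G ⧸ ⁅D, D⁆) from hhb.symm, ← QuotientGroup.mk_mul,
        ← QuotientGroup.mk_mul, Subgroup.mem_centralizer_iff.1 hg h hh]
  have h : (a : G ⧸ ⁅D, D⁆) * (u : G ⧸ ⁅D, D⁆) = (u : G ⧸ ⁅D, D⁆) * a :=
    Subgroup.mem_centralizer_iff.1 (hle hu) _ a.2
  rw [← h, mul_inv_cancel_right]

theorem exists_conj_ne_of_notMem [Finite G] {p : ℕ} [Fact p.Prime] (hDp : IsPGroup p D) {s : G}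
    (hs : Cfsg.IsPRegular p s) (hsC : s ∉ Subgroup.centralizer (D : Set G)) :
    ∃ a : (toTop D).ker,
      (s : G ⧸ ⁅D, D⁆) * (a : G ⧸ ⁅D, D⁆) * (s : G ⧸ ⁅D, D⁆)⁻¹ ≠ a := by
  by_contra! h
  refine hsC (BlockChar.mem_centralizer_of_mod_derived D hDp hs fun k hk => ?_)
  rw [← QuotientGroup.eq_one_iff]
  simp only [QuotientGroup.mk_mul, QuotientGroup.mk_inv]
  exact mul_inv_eq_one.2 (h ⟨_, mk_mem_ker_toTop D hk⟩)

end Cfsg.Agent.Blocks.NormalDefect
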