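import Cfsg.Agent.Blocks.NormalDefect.TopIdem
import Cfsg.Agent.Blocks.NormalDefect.Quot
import Cfsg.Agent.Blocks.NormalDefect.Coprime
import Cfsg.Agent.BrauerPairs.MaximalCriterion

/-!
# Derivations of central elements are scalars on the top idempotent
-/

set_option autoImplicit false

namespace Cfsg.Agent.Blocks.NormalDefect

open Module Cfsg.Agent Cfsg.Agent.Blocks Cfsg.Agent.BrauerPairs
open Cfsg.Agent.BlockChar.ResidueBlock (res res_conv coeff_res lift res_lift memLocalRing_lift)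
open Cfsg.Agent.BlockChar.Cyclic (bElt bElt_central bElt_idem eElt eElt_fixed
  eElt_conj_mul_eq_zero emb emb_bElt conjRep conjRep_apply bElt_ne_zero pairStab mem_pairStab)
open scoped commutatorElement

universe u v w

attribute [local instance] Ideal.Quotient.field

set_option synthInstance.maxHeartbeats 400000

variable {G : Type u} [Group G] [Fintype G] {p : ℕ} {M : Ideal Cfsg.AlgInt}

local notation "CG[" Q "]" => Subgroup.centralizer (SetLike.coe Q)
local notation "𝕜" => Cfsg.AlgInt ⧸ M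

theorem bElt_singleton_mul [M.IsMaximal] (hM : Cfsg.IsPModular p M) {θ : Cfsg.IrrCharacter G}
    (hθ : Cfsg.IsPBlock M ({θ} : Set (Cfsg.IrrCharacter G))) {F : G → ℂ}
    (hFcl : Cfsg.IsClassFunction G F) (hFR : ∀ a, Cfsg.MemLocalRing M (F a)) :
    bElt hM {θ} * res hM F = resFun hM (omega (θ : G → ℂ) F) • bElt hM {θ} := by
  classical
  have hbR := memLocalRing_blockCoeff hM hθ
  rw [bElt, ← res_conv hM hbR hFR]
  have hc : conv (Cfsg.blockCoeff ({θ} : Set (Cfsg.IrrCharacter G))) F =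
      omega (θ : G → ℂ) F • Cfsg.blockCoeff ({θ} : Set (Cfsg.IrrCharacter G)) := by
    refine classFun_ext_omega (isClassFunction_conv (isClassFunction_blockCoeff _) hFcl)
      (fun a g => by simp only [Pi.smul_apply, isClassFunction_blockCoeff _ a g]) fun η => ?_
    rw [omega_conv η.2 (isClassFunction_blockCoeff _) hFcl, omega_smul, omega_blockCoeff]
    by_cases hη : η ∈ ({θ} : Set (Cfsg.IrrCharacter G))
    · rw [if_pos hη, Set.mem_singleton_iff.1 hη, one_mul, mul_one]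
    · rw [if_neg hη, zero_mul, mul_zero]
  rw [hc]
  refine MonoidAlgebra.coeff_injective (Finsupp.ext fun a => ?_)
  rw [MonoidAlgebra.coeff_smul, Finsupp.smul_apply, coeff_res, coeff_res, Pi.smul_apply,
    smul_eq_mul, resFun_mul hM (memLocalRing_omega hM θ.2 hFcl hFR) (hbR a), smul_eq_mul]

variable {D : Subgroup G} [D.Normal] {B : Set (Cfsg.IrrCharacter G)}
  {e : Set (Cfsg.IrrCharacter CG[D])}

theorem derivMap_comm_centre [M.IsMaximal] [Fintype (G ⧸ ⁅D, D⁆)]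
    {f : (toTop D).ker → 𝕜} (hf : ∀ a b, f (a * b) = f a + f b)
    {z : MonoidAlgebra 𝕜 (G ⧸ ⁅D, D⁆)} (hzc : ∀ y, z * y = y * z)
    (hz : mapAlg 𝕜 (toTop D) z = 0) (c : CG[D]) :
    MonoidAlgebra.of 𝕜 (G ⧸ D) ((c : G) : G ⧸ D) *
        derivMap 𝕜 (toTop_surjective D) f z =
      derivMap 𝕜 (toTop_surjective D) f z *
        MonoidAlgebra.of 𝕜 (G ⧸ D) ((c : G) : G ⧸ D) := by
  have hfix : ∀ a : (toTop D).ker,
      f a = f ⟨((c : G) : G ⧸ ⁅D, D⁆) * (a : G ⧸ ⁅D, D⁆) * ((c : G) : G ⧸ ⁅D, D⁆)⁻¹,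
        conj_ker_mem _ a⟩ := fun a => congrArg f (Subtype.ext
      (conj_ker_toTop_of_mem_sup D (Subgroup.mem_sup_right c.2) a).symm)
  have h := derivMap_conj 𝕜 (toTop_surjective D) hf ((c : G) : G ⧸ ⁅D, D⁆) f hfix hz
  rw [← hzc, mul_assoc z, ← map_mul, mul_inv_cancel, map_one, mul_one, toTop_mk] at h
  exact mul_of_comm_iff.1 h.symm

theorem coeff_derivMap_of_stabilizes [M.IsMaximal] [Fintype (G ⧸ ⁅D, D⁆)]
    [(D.subgroupOf CG[D]).Normal] (hM : Cfsg.IsPModular p M)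
    (hmax : Cfsg.IsMaximalBrauerPair p M B D e)
    {f : (toTop D).ker → 𝕜} (hf : ∀ a b, f (a * b) = f a + f b)
    {z : MonoidAlgebra 𝕜 (G ⧸ ⁅D, D⁆)} (hzc : ∀ y, z * y = y * z) {g : G}
    (hgst : Cfsg.StabilizesBlock CG[D] e g) (hg : (g : G ⧸ D) ∉ Set.range (centreHom D)) :
    (derivMap 𝕜 (toTop_surjective D) f z).coeff (g : G ⧸ D) = 0 := by
  classical
  haveI := Fact.mk hM.1
  have := charP_residueField hM
  have hp := hM.1
  have he := hmax.1.1.2
  have hDp : IsPGroup p D := hmax.1.1.1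
  have hNG : ∀ h : G, h ∈ Subgroup.normalizer (D : Set G) := fun h => by
    rw [Subgroup.normalizer_eq_top]; trivial
  have hzcl : ∀ a y : G ⧸ ⁅D, D⁆, z.coeff (a * y * a⁻¹) = z.coeff y := by
    intro a y
    have h := congrArg (fun w : MonoidAlgebra 𝕜 (G ⧸ ⁅D, D⁆) => w.coeff (a * y))
      (hzc (MonoidAlgebra.single a 1))
    simp only [MonoidAlgebra.coeff_mul_single_apply, MonoidAlgebra.coeff_single_mul_apply,
      one_mul, mul_one, inv_mul_cancel_left] at h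
    exact h
  have hgT : g ∈ pairStab (⟨D, e⟩ : Cfsg.BrauerPairIdx G) :=
    (mem_pairStab hM he g).2 ⟨hNG g, hgst⟩
  obtain ⟨hp1, hp2⟩ := (mem_pairStab hM he (pPartOf p g)).1 (pow_mem hgT _)
  have hgp := mem_sup_of_maximal hM hmax hp1 hp2 (orderOf_pPartOf hp g)
  have hs := not_dvd_orderOf_pPrimePartOf hp g
  have hsC : pPrimePartOf p g ∉ CG[D] := by
    intro hsC
    apply hg
    have hgDC : g ∈ D ⊔ CG[D] := by
      rw [← pPartOf_mul_pPrimePartOf hp g]
      exact mul_mem hgp (Subgroup.mem_sup_right hsC)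
    rw [← SetLike.mem_coe, Subgroup.normal_mul] at hgDC
    obtain ⟨u, hu, c, hc, rfl⟩ := Set.mem_mul.1 hgDC
    refine ⟨((⟨c, hc⟩ : CG[D]) : CG[D] ⧸ D.subgroupOf CG[D]), ?_⟩
    rw [centreHom_mk, QuotientGroup.mk_mul, (QuotientGroup.eq_one_iff u).2 hu, one_mul]
  have hys : ∀ a : (toTop D).ker,
      (g : G ⧸ ⁅D, D⁆) * (a : G ⧸ ⁅D, D⁆) * (g : G ⧸ ⁅D, D⁆)⁻¹ =
        ((pPrimePartOf p g : G) : G ⧸ ⁅D, D⁆) * (a : G ⧸ ⁅D, D⁆) *
          ((pPrimePartOf p g : G) : G ⧸ ⁅D, D⁆)⁻¹ := by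
    intro a
    conv_lhs => rw [← pPartOf_mul_pPrimePartOf hp g, QuotientGroup.mk_mul]
    have h := conj_ker_toTop_of_mem_sup D hgp
      ⟨_, conj_ker_mem (π := toTop D) ((pPrimePartOf p g : G) : G ⧸ ⁅D, D⁆) a⟩
    refine Eq.trans ?_ h
    simp only [mul_inv_rev, mul_assoc]
  have hpow : ((pPrimePartOf p g : G) : G ⧸ ⁅D, D⁆) ^ orderOf (pPrimePartOf p g) = 1 := by
    rw [← QuotientGroup.mk_pow, pow_orderOf_eq_one]; rfl
  have h0 := coeff_derivMap_eq_zero 𝕜 (toTop_surjective D) (ker_toTop_comm D)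
    (isPGroup_ker_toTop D hDp) hf hzcl (y := (g : G ⧸ ⁅D, D⁆)) hs hpow hys
    (exists_conj_ne_of_notMem D hDp hs hsC)
  rwa [toTop_mk] at h0

theorem topIdem_mul_eq [M.IsMaximal] [(D.subgroupOf CG[D]).Normal]
    [Fintype (CG[D] ⧸ D.subgroupOf CG[D])] (hM : Cfsg.IsPModular p M)
    (he : Cfsg.IsPBlock M e) {eb : MonoidAlgebra 𝕜 (G ⧸ D)} (heb : eb = topIdem hM D e)
    (hidem : eb * eb = eb) (Δ : MonoidAlgebra 𝕜 (G ⧸ D)) (hcomm : eb * Δ = Δ * eb)
    (hfix : ∀ a, eb * MonoidAlgebra.of 𝕜 (G ⧸ D) (centreHom D a) =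
      MonoidAlgebra.of 𝕜 (G ⧸ D) (centreHom D a) * eb)
    (hzero : ∀ g : G, Cfsg.StabilizesBlock CG[D] e g → (g : G ⧸ D) ∉ Set.range (centreHom D) →
      Δ.coeff (g : G ⧸ D) = 0) :
    eb * Δ = eb * ∑ a, Δ.coeff (centreHom D a) • MonoidAlgebra.of 𝕜 (G ⧸ D) (centreHom D a) := by
  classical
  letI := Fintype.ofFinite (G ⧸ D)
  set out : Finset (G ⧸ D) := Finset.univ.filter fun q => q ∉ Set.range (centreHom D)
  have hsplit : Δ = (∑ a, Δ.coeff (centreHom D a) •
      MonoidAlgebra.of 𝕜 (G ⧸ D) (centreHom D a)) +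
      ∑ q ∈ out, Δ.coeff q • MonoidAlgebra.of 𝕜 (G ⧸ D) q := by
    conv_lhs => rw [expand 𝕜 Δ, ← Finset.sum_filter_add_sum_filter_not Finset.univ
      (fun q => q ∈ Set.range (centreHom D))]
    congr 1
    rw [show Finset.univ.filter (fun q => q ∈ Set.range (centreHom D)) =
        Finset.univ.image (centreHom D) by ext; simp,
      Finset.sum_image fun a _ b _ h => centreHom_injective D h]
  have hout : eb * (∑ q ∈ out, Δ.coeff q • MonoidAlgebra.of 𝕜 (G ⧸ D) q) * eb = 0 := by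
    rw [Finset.mul_sum, Finset.sum_mul]
    refine Finset.sum_eq_zero fun q hq => ?_
    have hq' : q ∉ Set.range (centreHom D) := (Finset.mem_filter.1 hq).2
    obtain ⟨g, rfl⟩ := QuotientGroup.mk_surjective q
    by_cases hg : Cfsg.StabilizesBlock CG[D] e g
    · have h0 : Δ.coeff (g : G ⧸ D) • MonoidAlgebra.of 𝕜 (G ⧸ D) (g : G ⧸ D) = 0 := by
        rw [hzero g hg hq']
        exact MonoidAlgebra.coeff_injective (Finsupp.ext fun a => by simp)
      rw [h0, mul_zero, zero_mul]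
    · rw [mul_smul_comm, smul_mul_assoc, heb, topIdem_orth hM he hg, smul_zero]
  have hin : eb * (∑ a, Δ.coeff (centreHom D a) •
      MonoidAlgebra.of 𝕜 (G ⧸ D) (centreHom D a)) * eb =
      eb * ∑ a, Δ.coeff (centreHom D a) • MonoidAlgebra.of 𝕜 (G ⧸ D) (centreHom D a) := by
    rw [Finset.mul_sum, Finset.sum_mul]
    refine Finset.sum_congr rfl fun a _ => ?_
    rw [mul_smul_comm, smul_mul_assoc, mul_assoc, ← hfix a, ← mul_assoc, hidem]
  calc eb * Δ = eb * Δ * eb := by rw [mul_assoc, ← hcomm, ← mul_assoc, hidem]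
    _ = _ := by
        conv_lhs => rw [hsplit]
        rw [mul_add, add_mul, hout, add_zero, hin]

/-- The derivation of a central element of the kernel is a scalar on the top idempotent. -/
theorem exists_topIdem_mul_derivMap [M.IsMaximal] [Fintype (G ⧸ ⁅D, D⁆)]
    (hM : Cfsg.IsPModular p M) (hmax : Cfsg.IsMaximalBrauerPair p M B D e)
    {f : (toTop D).ker → 𝕜} (hf : ∀ a b, f (a * b) = f a + f b)
    {z : MonoidAlgebra 𝕜 (G ⧸ ⁅D, D⁆)} (hzc : ∀ y, z * y = y * z)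
    (hz : mapAlg 𝕜 (toTop D) z = 0) :
    ∃ c : 𝕜, topIdem hM D e * derivMap 𝕜 (toTop_surjective D) f z = c • topIdem hM D e := by
  classical
  haveI : (D.subgroupOf CG[D]).Normal := normal_inter_centralizer D
  letI := Fintype.ofFinite CG[D]
  letI := Fintype.ofFinite (CG[D] ⧸ D.subgroupOf CG[D])
  obtain ⟨θ, hθ, heb⟩ := exists_topIdem_eq hM hmax
  obtain ⟨Δ, hΔ⟩ : ∃ Δ, Δ = derivMap 𝕜 (toTop_surjective D) f z := ⟨_, rfl⟩
  rw [← hΔ]
  have hcomm : ∀ a, MonoidAlgebra.of 𝕜 (G ⧸ D) (centreHom D a) * Δ =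
      Δ * MonoidAlgebra.of 𝕜 (G ⧸ D) (centreHom D a) := by
    intro a
    obtain ⟨c, rfl⟩ := QuotientGroup.mk_surjective a
    rw [hΔ, centreHom_mk]
    exact derivMap_comm_centre hf hzc hz c
  have hcomm' : ∀ w, mapAlg 𝕜 (centreHom D) w * Δ = Δ * mapAlg 𝕜 (centreHom D) w := by
    intro w
    induction w using MonoidAlgebra.induction_on with
    | of a => rw [mapAlg_of]; exact hcomm a
    | add a b ha hb => rw [map_add, add_mul, mul_add, ha, hb]
    | smul r a ha => rw [map_smul, smul_mul_assoc, mul_smul_comm, ha]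
  have hFcl : Cfsg.IsClassFunction (CG[D] ⧸ D.subgroupOf CG[D])
      (fun a => lift Δ (centreHom D a)) := by
    intro a g
    have h := congrArg (fun w : MonoidAlgebra 𝕜 (G ⧸ D) =>
      w.coeff (centreHom D g * centreHom D a)) (hcomm g)
    simp only [MonoidAlgebra.of_apply, MonoidAlgebra.coeff_mul_single_apply,
      MonoidAlgebra.coeff_single_mul_apply, one_mul, mul_one, inv_mul_cancel_left] at h
    simp only [lift, map_mul, map_inv, h]
  have hFR : ∀ a, Cfsg.MemLocalRing M (lift Δ (centreHom D a)) := fun a =>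
    memLocalRing_lift hM Δ _
  have hw : ∑ a, Δ.coeff (centreHom D a) • MonoidAlgebra.of 𝕜 (G ⧸ D) (centreHom D a) =
      mapAlg 𝕜 (centreHom D) (res hM fun a => lift Δ (centreHom D a)) := by
    conv_rhs => rw [expand 𝕜 (res hM fun a => lift Δ (centreHom D a)), map_sum]
    refine Finset.sum_congr rfl fun a _ => ?_
    rw [map_smul, mapAlg_of, coeff_res]
    congr 1
    conv_lhs => rw [← res_lift hM Δ, coeff_res]
  have hfix : ∀ a, topIdem hM D e * MonoidAlgebra.of 𝕜 (G ⧸ D) (centreHom D a) =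
      MonoidAlgebra.of 𝕜 (G ⧸ D) (centreHom D a) * topIdem hM D e := by
    intro a
    rw [heb, ← mapAlg_of, ← map_mul, ← map_mul, bElt_central hM]
  refine ⟨resFun hM (omega (θ : CG[D] ⧸ D.subgroupOf CG[D] → ℂ)
    fun a => lift Δ (centreHom D a)), ?_⟩
  rw [topIdem_mul_eq hM hmax.1.1.2 rfl (topIdem_mul_self hM hmax) Δ (by rw [heb, hcomm']) hfix
    (fun g hg hg' => hΔ ▸ coeff_derivMap_of_stabilizes hM hmax hf hzc hg hg'), hw, heb, ← map_mul,
    bElt_singleton_mul hM hθ hFcl hFR, map_smul]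

end Cfsg.Agent.Blocks.NormalDefect
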