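import Cfsg.Agent.Blocks.NormalDefect.Reduction
import Cfsg.Agent.BlockChar.Cyclic.Setup

/-!
# Matrix units for characters of defect zero
-/

set_option autoImplicit false

namespace Cfsg.Agent.Blocks.NormalDefect

open Module Cfsg.Agent Cfsg.Agent.Blocks Cfsg.Agent.BlockChar.ResidueBlock
open Cfsg.Agent.BlockChar.Cyclic (bElt bElt_central bElt_idem res_zero groupSum groupSum_eq
  groupSum_apply conjRep rad_eq_zero exists_point exists_trace_root exists_smul_eq_end
  resFun_zero')

universe u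

attribute [local instance] Ideal.Quotient.field

set_option synthInstance.maxHeartbeats 400000
set_option maxHeartbeats 4000000

variable {G : Type u} [Group G] {p : ℕ} {M : Ideal Cfsg.AlgInt}

local notation "𝕜" => Cfsg.AlgInt ⧸ M

theorem blockDefect_singleton [Finite G] (hM : Cfsg.IsPModular p M) (χ : Cfsg.IrrCharacter G)
    (h : Cfsg.blockOf M (χ : G → ℂ) = {χ}) :
    Cfsg.blockDefect p ({χ} : Set (Cfsg.IrrCharacter G)) = 0 := by
  have hd := (BlockThms.blockOf_eq_singleton_iff hM χ).2 h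
  have hmin : BlockChar.minVal p ({χ} : Set (Cfsg.IrrCharacter G)) =
      (Cfsg.charDegree (χ : G → ℂ)).factorization p := by
    rw [BlockChar.minVal, Set.image_singleton, csInf_singleton]
  rw [BlockChar.blockDefect_eq, hmin]
  obtain ⟨hc, hpos⟩ := CharArith.irr_degree_spec χ
  obtain ⟨c, hc'⟩ := Char.IsIrr.degree_dvd_card χ.2 hc
  rw [hc', Nat.mul_div_cancel_left _ hpos] at hd
  have hc0 : c ≠ 0 := fun e => by
    rw [e, mul_zero] at hc'
    exact Nat.card_pos.ne' hc'
  rw [hc', Nat.factorization_mul hpos.ne' hc0, Finsupp.add_apply,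
    Nat.factorization_eq_zero_of_not_dvd hd, add_zero, Nat.sub_self]

variable [Fintype G] [M.IsMaximal] (hM : Cfsg.IsPModular p M)
include hM

open scoped Classical in
/-- The idempotent of a set of singleton blocks is the sum of theirs. -/
theorem bElt_eq_sum (X : Set (Cfsg.IrrCharacter G))
    (hX : ∀ θ ∈ X, Cfsg.blockOf M (θ : G → ℂ) = {θ}) :
    (∀ g, Cfsg.MemLocalRing M (Cfsg.blockCoeff X g)) ∧
      bElt hM X = ∑ θ ∈ X.toFinite.toFinset, bElt hM ({θ} : Set (Cfsg.IrrCharacter G)) := by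
  classical
  have hR : ∀ θ ∈ X, ∀ g,
      Cfsg.MemLocalRing M (Cfsg.blockCoeff ({θ} : Set (Cfsg.IrrCharacter G)) g) :=
    fun θ hθ g => memLocalRing_blockCoeff hM (hX θ hθ ▸ isPBlock_blockOf θ) g
  have hsum : Cfsg.blockCoeff X =
      ∑ θ ∈ X.toFinite.toFinset, Cfsg.blockCoeff ({θ} : Set (Cfsg.IrrCharacter G)) := by
    refine classFun_ext_omega (isClassFunction_blockCoeff X) (fun x c => by
      simp only [Finset.sum_apply]
      exact Finset.sum_congr rfl fun θ _ => isClassFunction_blockCoeff _ x c) fun χ => ?_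
    rw [omega_sum, omega_blockCoeff]
    simp only [omega_blockCoeff, Set.mem_singleton_iff, Finset.sum_ite_eq]
    simp
  refine ⟨fun g => ?_, ?_⟩
  · rw [hsum, Finset.sum_apply]
    exact (localRing hM).sum_mem fun θ hθ => hR θ (X.toFinite.mem_toFinset.1 hθ) g
  · refine MonoidAlgebra.coeff_injective (Finsupp.ext fun g => ?_)
    rw [MonoidAlgebra.coeff_sum, Finsupp.finsetSum_apply]
    simp only [bElt, coeff_res]
    rw [hsum, Finset.sum_apply,
      BlockThms.OrderP.resFun_sum hM _ fun θ hθ => hR θ (X.toFinite.mem_toFinset.1 hθ) g]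

/-- Matrix units of a block of defect zero. -/
theorem exists_units_singleton [Fact p.Prime] (θ : Cfsg.IrrCharacter G)
    (h : Cfsg.blockOf M (θ : G → ℂ) = {θ}) {d : ℕ}
    (hd : Cfsg.charDegree (θ : G → ℂ) = d) :
    ∃ (i : MonoidAlgebra 𝕜 G) (u v : Fin d → MonoidAlgebra 𝕜 G),
      i * i = i ∧ bElt hM {θ} * i = i ∧ (∀ s, bElt hM {θ} * u s = u s) ∧
      (∀ t, bElt hM {θ} * v t = v t) ∧ (∀ s, u s * i = u s) ∧ (∀ t, i * v t = v t) ∧
      (∀ t s, v t * u s = if t = s then i else 0) ∧ ∑ s, u s * v s = bElt hM {θ} := by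
  classical
  have := BlockThms.OrderP.isAlgClosed_residue (M := M)
  have hB : Cfsg.IsPBlock M ({θ} : Set (Cfsg.IrrCharacter G)) := h ▸ isPBlock_blockOf θ
  have hfd : FiniteDimensional 𝕜 (MonoidAlgebra 𝕜 G) :=
    Module.Finite.of_basis (MonoidAlgebra.basis G 𝕜)
  obtain ⟨D, hD⟩ := DefectThms.exists_defectGroup hM hB
  have hD1 : D = ⊥ := Subgroup.card_eq_one.1 (by
    rw [BlockChar.card_defectGroup hM hB hD, blockDefect_singleton hM θ h, pow_zero])
  have hl := BlockChar.blockRank_eq_one_of_central hM hB hD (by rw [hD1]; exact bot_le)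
  obtain ⟨S, i₀, v₀, hP⟩ := exists_point hM hB hl
  obtain ⟨b, -, hb⟩ := exists_trace_root hM hB hD
  have hb' : groupSum (conjRep 𝕜) ⊤ b = bElt hM {θ} := by
    have := Fintype.ofFinite (⊥ : Subgroup G)
    rw [groupSum_eq _ (bot_le : (⊥ : Subgroup G) ≤ ⊤), groupSum_apply, Fintype.sum_unique]
    rw [Subgroup.mem_bot.1 (default : (⊥ : Subgroup G)).2, map_one, Module.End.one_apply]
    simpa [hD1] using hb
  have hfaith : ∀ x y, bElt hM {θ} * x = x → bElt hM {θ} * y = y →
      (∀ v : S.V, x • v = y • v) → x = y := fun x y hx hy hxy => by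
    have hz : bElt hM {θ} * (x - y) = x - y := by rw [mul_sub, hx, hy]
    exact sub_eq_zero.1 (rad_eq_zero (bElt_central hM) hb'
      (hP.rad _ hz fun v => by rw [sub_smul, hxy, sub_self]) hz)
  -- the dimension of the simple module
  let ρ : LinearMap.range (LinearMap.mulLeft 𝕜 (bElt hM {θ})) →ₗ[𝕜] Module.End 𝕜 S.V :=
    (Algebra.lsmul 𝕜 𝕜 S.V).toLinearMap ∘ₗ Submodule.subtype _
  have hmemL : ∀ x ∈ LinearMap.range (LinearMap.mulLeft 𝕜 (bElt hM {θ})),
      bElt hM {θ} * x = x := by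
    rintro _ ⟨y, rfl⟩
    rw [LinearMap.mulLeft_apply, ← mul_assoc, bElt_idem hM hB]
  have hρ : Function.Bijective ρ := ⟨(injective_iff_map_eq_zero _).2 fun x hx =>
      Subtype.ext (hfaith _ _ (hmemL _ x.2) (mul_zero _) fun v => by
        refine Eq.trans ?_ (zero_smul (MonoidAlgebra 𝕜 G) v).symm
        exact LinearMap.congr_fun hx v),
    fun A => by
      obtain ⟨a, ha⟩ := exists_smul_eq_end (k := 𝕜) (R := MonoidAlgebra 𝕜 G) A
      refine ⟨⟨bElt hM {θ} * a, a, rfl⟩, LinearMap.ext fun v => ?_⟩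
      show (bElt hM {θ} * a) • v = A v
      rw [mul_smul, ha, S.fix]⟩
  have hR := fun g => memLocalRing_blockCoeff hM hB g
  have hdim : finrank 𝕜 S.V = d := by
    have h1 := le_antisymm (finrank_range_le_sum hM hR) (le_finrank_range hM hR)
    rw [(LinearEquiv.ofBijective ρ hρ).finrank_eq,
      show finrank 𝕜 (Module.End 𝕜 S.V) = finrank 𝕜 S.V * finrank 𝕜 S.V from
        Module.finrank_linearMap 𝕜 𝕜 S.V S.V] at h1
    simp only [Set.Finite.toFinset_singleton, Finset.sum_singleton, hd] at h1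
    rw [sq] at h1
    exact Nat.mul_self_inj.1 h1
  -- the units
  have hd0 : 0 < d := hd ▸ (CharArith.irr_degree_spec θ).2
  obtain ⟨q₀⟩ : Nonempty (Fin d) := ⟨⟨0, hd0⟩⟩
  let β : Basis (Fin d) 𝕜 S.V := Module.finBasisOfFinrankEq 𝕜 S.V hdim
  have hlift : ∀ A : Module.End 𝕜 S.V, ∃ a, bElt hM {θ} * a = a ∧ ∀ v : S.V, a • v = A v :=
    fun A => by
      obtain ⟨a, ha⟩ := exists_smul_eq_end (k := 𝕜) (R := MonoidAlgebra 𝕜 G) A
      exact ⟨bElt hM {θ} * a, by rw [← mul_assoc, bElt_idem hM hB],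
        fun v => by rw [mul_smul, ha, S.fix]⟩
  choose lf hlf hlf' using hlift
  let i := lf ((β.coord q₀).smulRight (β q₀))
  let uu : Fin d → MonoidAlgebra 𝕜 G := fun s => lf ((β.coord q₀).smulRight (β s))
  let vv : Fin d → MonoidAlgebra 𝕜 G := fun t => lf ((β.coord t).smulRight (β q₀))
  have hmul : ∀ {x y}, bElt hM {θ} * x = x → bElt hM {θ} * (x * y) = x * y := fun hx => by
    rw [← mul_assoc, hx]
  refine ⟨i, uu, vv, hfaith _ _ (hmul (hlf _)) (hlf _) fun v => ?_, hlf _, fun s => hlf _,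
    fun t => hlf _, fun s => hfaith _ _ (hmul (hlf _)) (hlf _) fun v => ?_,
    fun t => hfaith _ _ (hmul (hlf _)) (hlf _) fun v => ?_, fun t s => ?_, ?_⟩
  · rw [mul_smul]
    simp [i, hlf', Finsupp.single_apply]
  · rw [mul_smul]
    simp [i, uu, hlf', Finsupp.single_apply]
  · rw [mul_smul]
    simp [i, vv, hlf', Finsupp.single_apply]
  · refine hfaith _ _ (hmul (hlf _)) ?_ fun v => ?_
    · split_ifs
      · exact hlf _
      · exact mul_zero _
    · rw [mul_smul]
      split_ifs with hts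
      · simp [i, uu, vv, hlf', Finsupp.single_apply, hts]
      · have h0 : β.coord t (β s) = 0 := by
          rw [Basis.coord_apply, Basis.repr_self, Finsupp.single_eq_of_ne hts]
        show lf _ • lf _ • v = (0 : MonoidAlgebra 𝕜 G) • v
        simp only [hlf', LinearMap.smulRight_apply, map_smul, h0]
        refine Eq.trans ?_ (zero_smul (MonoidAlgebra 𝕜 G) v).symm
        exact smul_eq_zero_of_right _ (zero_smul 𝕜 (β q₀) :)
  · refine hfaith _ _ (by rw [Finset.mul_sum]; exact Finset.sum_congr rfl fun s _ => hmul (hlf _))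
      (bElt_idem hM hB) fun v => ?_
    rw [Finset.sum_smul, S.fix]
    conv_rhs => rw [← β.sum_repr v]
    refine Finset.sum_congr rfl fun s _ => ?_
    rw [mul_smul]
    simp [uu, vv, hlf', Finsupp.single_apply]

/-- Matrix units for a set of characters of defect zero and one degree. -/
theorem exists_units [Fact p.Prime] (X : Set (Cfsg.IrrCharacter G))
    (hX : ∀ θ ∈ X, Cfsg.blockOf M (θ : G → ℂ) = {θ}) {d : ℕ}
    (hd : ∀ θ ∈ X, Cfsg.charDegree (θ : G → ℂ) = d) :
    ∃ (i : MonoidAlgebra 𝕜 G) (u v : Fin d → MonoidAlgebra 𝕜 G),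
      i * i = i ∧ (∀ s, u s * i = u s) ∧ (∀ t, i * v t = v t) ∧
      (∀ t s, v t * u s = if t = s then i else 0) ∧ ∑ s, u s * v s = bElt hM X := by
  classical
  choose I U V hII hεI hεU hεV hUI hIV hVU hone using
    fun θ : X => exists_units_singleton hM θ.1 (hX θ θ.2) (hd θ θ.2)
  have horth : ∀ θ θ' : X, θ ≠ θ' → ∀ {x y : MonoidAlgebra 𝕜 G},
      bElt hM {θ.1} * x = x → bElt hM {θ'.1} * y = y → x * y = 0 := by
    intro θ θ' hne x y hx hy
    have hR : ∀ η : X, ∀ g, Cfsg.MemLocalRing M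
        (Cfsg.blockCoeff ({η.1} : Set (Cfsg.IrrCharacter G)) g) :=
      fun η g => memLocalRing_blockCoeff hM (hX η η.2 ▸ isPBlock_blockOf η.1) g
    have h0 : bElt hM {θ.1} * bElt hM {θ'.1} = 0 := by
      rw [bElt, bElt, ← res_conv hM (hR θ) (hR θ'),
        blockCoeff_conv_disjoint (Set.disjoint_singleton.2 fun h => hne (Subtype.ext h)),
        res_zero hM]
    rw [← hx, ← hy, bElt_central hM x, mul_assoc, ← mul_assoc (bElt hM {θ.1}), h0, zero_mul,
      mul_zero]
  refine ⟨∑ θ, I θ, fun s => ∑ θ, U θ s, fun t => ∑ θ, V θ t, ?_, fun s => ?_, fun t => ?_,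
    fun t s => ?_, ?_⟩
  · rw [Finset.sum_mul_sum]
    refine Finset.sum_congr rfl fun θ _ => ?_
    rw [Finset.sum_eq_single θ]
    · exact hII θ
    · exact fun θ' _ hne => horth θ θ' hne.symm (hεI θ) (hεI θ')
    · simp
  · rw [Finset.sum_mul_sum]
    refine Finset.sum_congr rfl fun θ _ => ?_
    rw [Finset.sum_eq_single θ]
    · exact hUI θ s
    · exact fun θ' _ hne => horth θ θ' hne.symm (hεU θ s) (hεI θ')
    · simp
  · rw [Finset.sum_mul_sum]
    refine Finset.sum_congr rfl fun θ _ => ?_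
    rw [Finset.sum_eq_single θ]
    · exact hIV θ t
    · exact fun θ' _ hne => horth θ θ' hne.symm (hεI θ) (hεV θ' t)
    · simp
  · rw [Finset.sum_mul_sum]
    rw [Finset.sum_congr rfl fun θ _ => Finset.sum_eq_single θ
      (fun θ' _ hne => horth θ θ' hne.symm (hεV θ t) (hεU θ' s)) (by simp)]
    simp only [hVU]
    split_ifs <;> simp
  · simp only [Finset.sum_mul_sum]
    rw [Finset.sum_comm, (bElt_eq_sum hM X hX).2,
      Finset.sum_subtype X.toFinite.toFinset (fun θ => X.toFinite.mem_toFinset)]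
    refine Finset.sum_congr rfl fun θ _ => ?_
    rw [← hone θ, Finset.sum_comm, Finset.sum_eq_single θ]
    · intro θ' _ hne
      exact Finset.sum_eq_zero fun s _ => horth θ θ' hne.symm (hεU θ s) (hεV θ' s)
    · simp

end Cfsg.Agent.Blocks.NormalDefect
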