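import Cfsg.Agent.Blocks.NormalDefect.Cover
import Cfsg.Agent.Blocks.NormalDefect.CentralSpan
import Cfsg.Agent.Blocks.NormalDefect.Units
import Cfsg.Agent.Blocks.NormalDefect.Coprime
import Cfsg.Agent.Blocks.NormalDefect.Scalar
import Cfsg.Agent.Blocks.NormalDefect.Degrees
import Cfsg.Agent.BlockChar.Cyclic.Setup
import Cfsg.Agent.BlockChar.DerivedQuotient
import Cfsg.Agent.Blocks.Star.NilpotentMain
import Cfsg.Agent.BrauerPairs.FirstMain

/-!
# Blocks with a normal defect group and height zero characters of one degree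

The p-regular elements fixing the top pair centralize the defect group, so the block is
nilpotent.
-/

set_option autoImplicit false

namespace Cfsg.Agent.Blocks.NormalDefect

open Module Cfsg.Agent Cfsg.Agent.Blocks Cfsg.Agent.BrauerPairs
open Cfsg.Agent.BlockChar.ResidueBlock (res res_conv coeff_res lift res_lift isClassFunction_lift
  memLocalRing_lift)
open Cfsg.Agent.BlockChar.Cyclic (bElt bElt_central bElt_idem res_zero res_central eElt eElt_fixed
  eElt_conj_mul_eq_zero emb emb_bElt conjRep conjRep_apply bElt_ne_zero pairStab mem_pairStab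
  resFun_zero')

universe u v w

attribute [local instance] Ideal.Quotient.field

set_option synthInstance.maxHeartbeats 400000
set_option maxHeartbeats 4000000

variable {G : Type u} [Group G] [Fintype G] {p : ℕ} {M : Ideal Cfsg.AlgInt}

local notation "CG[" Q "]" => Subgroup.centralizer (SetLike.coe Q)
local notation "𝕜" => Cfsg.AlgInt ⧸ M

variable {B : Set (Cfsg.IrrCharacter G)} {D : Subgroup G} [D.Normal]
  {e : Set (Cfsg.IrrCharacter CG[D])}

theorem bElt_inflSet_eq [M.IsMaximal] (hM : Cfsg.IsPModular p M) (hB : Cfsg.IsPBlock M B)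
    (N : Subgroup G) [N.Normal] [Fintype (G ⧸ N)] :
    bElt hM (inflSet N B) = mapAlg 𝕜 (QuotientGroup.mk' N) (bElt hM B) := by
  rw [bElt, bElt, mapAlg_res hM N (memLocalRing_blockCoeff hM hB), push_blockCoeff]

theorem mapAlg_toTop_bElt [M.IsMaximal] (hM : Cfsg.IsPModular p M) (hB : Cfsg.IsPBlock M B)
    [Fintype (G ⧸ ⁅D, D⁆)] [Fintype (G ⧸ D)] :
    mapAlg 𝕜 (toTop D) (bElt hM (inflSet ⁅D, D⁆ B)) = bElt hM (inflSet D B) := by
  rw [bElt_inflSet_eq hM hB, bElt_inflSet_eq hM hB, mapAlg_comp]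
  rfl

/-- With one degree in height zero, the kernel of the block algebra over the abelian kernel is
spanned by its central elements. -/
theorem exists_central_span_block [M.IsMaximal] (hM : Cfsg.IsPModular p M)
    (hB : Cfsg.IsPBlock M B) (hDp : IsPGroup p D) (hD : Cfsg.IsDefectGroup p M B D) {d : ℕ}
    (hdeg : ∀ χ ∈ B, Cfsg.blockHeight p B ((χ : Cfsg.IrrCharacter G) : G → ℂ) = 0 →
      Cfsg.charDegree (χ : G → ℂ) = d) [Fintype (G ⧸ ⁅D, D⁆)] [Fintype (G ⧸ D)]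
    (r : MonoidAlgebra 𝕜 (G ⧸ ⁅D, D⁆)) (hr : mapAlg 𝕜 (toTop D) r = 0)
    (hεr : bElt hM (inflSet ⁅D, D⁆ B) * r = r) :
    ∃ z a : Fin d × Fin d → MonoidAlgebra 𝕜 (G ⧸ ⁅D, D⁆),
      (∀ j, (∀ y, z j * y = y * z j) ∧ mapAlg 𝕜 (toTop D) (z j) = 0) ∧
      r = ∑ j, z j * a j := by
  classical
  haveI := Fact.mk hM.1
  have := charP_residueField hM
  have hd0 : 0 < d := by
    obtain ⟨χ, hχ, h0⟩ := BlockThms.exists_height_zero hM hB
    rw [← hdeg χ hχ h0]
    exact (CharArith.irr_degree_spec χ).2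
  have hBR := memLocalRing_blockCoeff hM hB
  have hBHR := memLocalRing_inflSet hM ⁅D, D⁆ hBR
  have hBHd : ∀ θ ∈ inflSet ⁅D, D⁆ B,
      Cfsg.charDegree ((θ : Cfsg.IrrCharacter (G ⧸ ⁅D, D⁆)) : G ⧸ ⁅D, D⁆ → ℂ) = d := by
    intro θ hθ
    rw [← charDegree_inflate ⁅D, D⁆ θ]
    refine hdeg _ hθ (height_zero_of_dvd hM hB hD ?_)
    rw [charDegree_inflate, ← index_ker_toTop D]
    exact charDegree_dvd_index (toTop D).ker
      (fun a ha b hb => congrArg Subtype.val (ker_toTop_comm D ⟨a, ha⟩ ⟨b, hb⟩)) θ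
  have hXdvd : ∀ θ : Cfsg.IrrCharacter (G ⧸ D),
      Cfsg.charDegree (θ : G ⧸ D → ℂ) ∣ D.index := fun θ =>
    Char.IsIrr.degree_dvd_card θ.2 (CharArith.irr_degree_spec θ).1
  have hXd : ∀ θ ∈ inflSet D B,
      Cfsg.charDegree ((θ : Cfsg.IrrCharacter (G ⧸ D)) : G ⧸ D → ℂ) = d := by
    intro θ hθ
    rw [← charDegree_inflate D θ]
    exact hdeg _ hθ (height_zero_of_dvd hM hB hD (by rw [charDegree_inflate]; exact hXdvd θ))
  have hXsing : ∀ θ ∈ inflSet D B,
      Cfsg.blockOf M ((θ : Cfsg.IrrCharacter (G ⧸ D)) : G ⧸ D → ℂ) = {θ} := by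
    intro θ hθ
    refine blockOf_eq_singleton_of_val hM θ ?_
    have h1 := BlockChar.minVal_le (p := p)
      (show (⟨(θ : G ⧸ D → ℂ) ∘ QuotientGroup.mk, Char.isIrrCharacter_mk D θ.2⟩ :
        Cfsg.IrrCharacter G) ∈ B from hθ)
    rw [charDegree_inflate, minVal_eq_index hM hB hD] at h1
    exact h1
  have : FiniteDimensional 𝕜 (MonoidAlgebra 𝕜 (G ⧸ ⁅D, D⁆)) :=
    Module.Finite.of_basis (MonoidAlgebra.basis (G ⧸ ⁅D, D⁆) 𝕜)
  obtain ⟨i', u', v', hi', hu, hv, hvu, hone⟩ := exists_units hM (inflSet D B) hXsing hXd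
  have hdim : finrank 𝕜 (LinearMap.range (LinearMap.mulLeft 𝕜
      (bElt hM (inflSet ⁅D, D⁆ B)))) ≤ d * d * Nat.card (inflSet ⁅D, D⁆ B) := by
    refine (finrank_range_le_sum hM hBHR).trans (le_of_eq ?_)
    rw [Finset.sum_congr rfl fun θ hθ => by
        rw [hBHd θ ((inflSet ⁅D, D⁆ B).toFinite.mem_toFinset.1 hθ)],
      Finset.sum_const, smul_eq_mul, sq, mul_comm, Nat.card_coe_set_eq,
      Set.ncard_eq_toFinset_card _ (inflSet ⁅D, D⁆ B).toFinite]
  exact exists_central_span (mapAlg 𝕜 (toTop D)) (mapAlg_surjective 𝕜 (toTop_surjective D))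
    (fun z hz => mem_jacobson_of_ker 𝕜 (toTop_surjective D) (isPGroup_ker_toTop D hDp) hz)
    (bElt_idem_set hM hBHR) (bElt_central hM) hd0 i' u' v' hi' hu hv hvu
    (hone.trans (mapAlg_toTop_bElt hM hB).symm) hdim (card_le_finrank_centre hM hBHR) r hr hεr

/-- With one degree in height zero, the p-regular stabilizer of the top pair centralizes the
defect group. -/
theorem mem_centralizer_of_equal_degrees (hM : Cfsg.IsPModular p M)
    (hmax : Cfsg.IsMaximalBrauerPair p M B D e)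
    {d : ℕ} (hdeg : ∀ χ ∈ B, Cfsg.blockHeight p B ((χ : Cfsg.IrrCharacter G) : G → ℂ) = 0 →
      Cfsg.charDegree (χ : G → ℂ) = d)
    {x : G} (hst : Cfsg.StabilizesBlock CG[D] e x) (hreg : Cfsg.IsPRegular p x) :
    x ∈ CG[D] := by
  classical
  haveI := Fact.mk hM.1
  have : M.IsMaximal := hM.2.1
  have := charP_residueField hM
  have hB := hmax.1.2.1
  have he := hmax.1.1.2
  have hDp : IsPGroup p D := hmax.1.1.1
  have hD := isDefectGroup_of_maximal hM hmax
  letI := Fintype.ofFinite (G ⧸ ⁅D, D⁆)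
  letI := Fintype.ofFinite (G ⧸ D)
  have hBHR := memLocalRing_inflSet hM ⁅D, D⁆ (memLocalRing_blockCoeff hM hB)
  have hπ := toTop_surjective D
  have hpow : ((x : G) : G ⧸ ⁅D, D⁆) ^ orderOf x = 1 := by
    rw [← QuotientGroup.mk_pow, pow_orderOf_eq_one]; rfl
  have hxx : ∀ a : (toTop D).ker,
      (x : G ⧸ ⁅D, D⁆) * (a : G ⧸ ⁅D, D⁆) * (x : G ⧸ ⁅D, D⁆)⁻¹ = a := by
    refine conj_trivial_of_additive 𝕜 (ker_toTop_comm D) (isPGroup_ker_toTop D hDp)
      (m := orderOf x) hreg hpow fun f hf a => ?_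
    obtain ⟨f', hf'⟩ : ∃ f' : (toTop D).ker → 𝕜,
        ∀ b, f' b = f ⟨(x : G ⧸ ⁅D, D⁆) * (b : G ⧸ ⁅D, D⁆) * (x : G ⧸ ⁅D, D⁆)⁻¹,
          conj_ker_mem _ b⟩ := ⟨_, fun _ => rfl⟩
    have hf'a : ∀ b c : (toTop D).ker, f' (b * c) = f' b + f' c := fun b c => by
      rw [hf', hf', hf', ← hf]
      congr 1
      exact Subtype.ext (by simp [mul_assoc])
    obtain ⟨eb, heb⟩ : ∃ eb, eb = topIdem hM D e := ⟨_, rfl⟩
    obtain ⟨r, hr⟩ : ∃ r, r = (MonoidAlgebra.of 𝕜 (G ⧸ ⁅D, D⁆) (a : G ⧸ ⁅D, D⁆) - 1) *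
        bElt hM (inflSet ⁅D, D⁆ B) := ⟨_, rfl⟩
    have hπr : mapAlg 𝕜 (toTop D) r = 0 := by
      have ha : toTop D (a : G ⧸ ⁅D, D⁆) = 1 := a.2
      rw [hr, map_mul, map_sub, mapAlg_of, ha, map_one, map_one, sub_self, zero_mul]
    obtain ⟨z, b, hz, hrz⟩ := exists_central_span_block hM hB hDp hD hdeg r hπr (by
      rw [hr, ← mul_assoc, bElt_central hM, mul_assoc, bElt_idem_set hM hBHR])
    have hmain : ∀ g : (toTop D).ker → 𝕜, (∀ b c, g (b * c) = g b + g c) →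
        g a • eb = ∑ j, eb * derivMap 𝕜 hπ g (z j) * mapAlg 𝕜 (toTop D) (b j) := by
      intro g hg
      calc g a • eb = eb * derivMap 𝕜 hπ g r := by
            rw [hr, derivMap_sub_one_mul 𝕜 hπ hg, mapAlg_toTop_bElt hM hB, mul_smul_comm, heb,
              topIdem_mul_bElt hM hmax]
        _ = _ := by
            rw [hrz, map_sum, Finset.mul_sum]
            exact Finset.sum_congr rfl fun j _ => by
              rw [derivMap_mul 𝕜 hπ hg (hz j).2, mul_assoc]
    have hfix := heb ▸ topIdem_fixed hM he hst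
    have hsame : ∀ j, eb * derivMap 𝕜 hπ f (z j) = eb * derivMap 𝕜 hπ f' (z j) := by
      intro j
      obtain ⟨c, hc⟩ := exists_topIdem_mul_derivMap hM hmax hf'a (hz j).1 (hz j).2
      rw [← heb] at hc
      have h := derivMap_conj 𝕜 hπ hf (x : G ⧸ ⁅D, D⁆) f' hf' (hz j).2
      rw [← (hz j).1, mul_assoc (z j), ← map_mul, mul_inv_cancel, map_one, mul_one, toTop_mk] at h
      have hcx := (mul_of_comm_iff.1 hfix).symm
      rw [h, ← mul_assoc, ← mul_assoc, hcx,
        mul_assoc (MonoidAlgebra.of 𝕜 (G ⧸ D) (x : G ⧸ D)) eb, hc, mul_smul_comm, smul_mul_assoc,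
        hfix]
    have h1 := hmain f hf
    have h2 := hmain f' hf'a
    rw [Finset.sum_congr rfl fun j _ => by rw [hsame j], ← h2] at h1
    rw [← hf']
    by_contra hne
    refine topIdem_ne_zero hM hmax (heb ▸ ?_)
    obtain ⟨q, hq⟩ : ∃ q, eb.coeff q ≠ 0 := by
      by_contra! h0
      exact topIdem_ne_zero hM hmax (heb ▸ MonoidAlgebra.coeff_injective (Finsupp.ext h0))
    have h3 := congrArg (fun w : MonoidAlgebra 𝕜 (G ⧸ D) => w.coeff q) h1
    simp only [MonoidAlgebra.coeff_smul, Finsupp.smul_apply, smul_eq_mul] at h3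
    exact absurd (mul_right_cancel₀ hq h3).symm hne
  by_contra hxC
  obtain ⟨a, ha⟩ := exists_conj_ne_of_notMem D hDp hreg hxC
  exact ha (hxx a)

/-- With a normal defect group, height zero degrees are equal exactly for nilpotent blocks. -/
theorem equal_degrees_iff_nilpotent (hM : Cfsg.IsPModular p M) {B : Set (Cfsg.IrrCharacter G)}
    (hB : Cfsg.IsPBlock M B) {D : Subgroup G} (hD : Cfsg.IsDefectGroup p M B D) [D.Normal] :
    (∃ d : ℕ, ∀ χ : Cfsg.IrrCharacter G, χ ∈ B → Cfsg.blockHeight p B (χ : G → ℂ) = 0 →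
      Cfsg.charDegree (χ : G → ℂ) = d) ↔ Cfsg.IsNilpotentBlock p M B := by
  classical
  haveI := Fact.mk hM.1
  obtain ⟨e, hmax⟩ := exists_maximal_on hM hB hD
  constructor
  · rintro ⟨d, hd⟩
    exact nilpotent_of_stabilizer hM hmax inferInstance fun x hst hreg =>
      mem_centralizer_of_equal_degrees hM hmax hd hst hreg
  · intro hnil
    obtain ⟨χ₀, hχ₀, h0⟩ := BlockThms.exists_height_zero hM hB
    obtain ⟨Θ, hΘ⟩ := Star.exists_twist_equiv hM hmax hnil hχ₀ h0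
    refine ⟨Cfsg.charDegree (χ₀ : G → ℂ), fun χ hχ h => ?_⟩
    obtain ⟨η, hη⟩ := Θ.surjective ⟨χ, hχ⟩
    obtain ⟨n, hn0, hn⟩ := Char.IsIrr.degree η.2
    obtain ⟨n₀, hn₀0, hn₀⟩ := Char.IsIrr.degree χ₀.2
    have h1 : (χ : G → ℂ) 1 = ((n * n₀ : ℕ) : ℂ) := by
      have := hΘ η 1 (by simp [hM.1.ne_one])
      rw [hη, hn, hn₀] at this
      rw [this, Nat.cast_mul]
    rw [BlockChar.blockHeight_eq, charDegree_eq h1, Nat.factorization_mul hn0.ne' hn₀0.ne',
      Finsupp.add_apply] at h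
    rw [BlockChar.blockHeight_eq, charDegree_eq hn₀] at h0
    have h2 := BlockChar.minVal_le (p := p) hχ₀
    rw [charDegree_eq hn₀] at h2
    have hpf : n.factorization p = 0 := by omega
    obtain ⟨k, hk⟩ := IsPGroup.iff_card.1 hmax.1.1.1
    have hdvd : n ∣ p ^ k := hk ▸ Char.IsIrr.degree_dvd_card η.2 hn
    obtain ⟨i, -, rfl⟩ := (Nat.dvd_prime_pow hM.1).1 hdvd
    rw [hM.1.factorization_pow, Finsupp.single_eq_same] at hpf
    rw [charDegree_eq h1, charDegree_eq hn₀, hpf, pow_zero, one_mul]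

end Cfsg.Agent.Blocks.NormalDefect
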