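import Cfsg.Agent.Blocks.NormalDefect.Degrees
import Cfsg.Agent.Blocks.NormalDefect.Derivation
import Cfsg.Agent.BlockChar.Cyclic.Setup

/-!
# The idempotent of the top pair over the quotient by a normal defect group
-/

set_option autoImplicit false

namespace Cfsg.Agent.Blocks.NormalDefect

open Module Cfsg.Agent Cfsg.Agent.Blocks Cfsg.Agent.BrauerPairs
open Cfsg.Agent.BlockChar.ResidueBlock (res res_conv coeff_res lift res_lift memLocalRing_lift)
open Cfsg.Agent.BlockChar.Cyclic (bElt bElt_central bElt_idem eElt eElt_fixed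
  eElt_conj_mul_eq_zero emb emb_bElt conjRep conjRep_apply bElt_ne_zero pairStab mem_pairStab)
open scoped commutatorElement

universe u v w

attribute [local instance] Ideal.Quotient.field

section Algebra

variable {k : Type w} [Field k] {G : Type u} [Group G] {H : Type v} [Group H]

theorem mapAlg_comp {Q : Type*} [Group Q] (φ : G →* H) (ψ : H →* Q) (x : MonoidAlgebra k G) :
    mapAlg k ψ (mapAlg k φ x) = mapAlg k (ψ.comp φ) x := by
  induction x using MonoidAlgebra.induction_on with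
  | of g => rw [mapAlg_of, mapAlg_of, mapAlg_of]; rfl
  | add x y hx hy => rw [map_add, map_add, map_add, hx, hy]
  | smul r x hx => rw [map_smul, map_smul, map_smul, hx]

theorem mapAlg_injective {φ : G →* H} (hφ : Function.Injective φ) :
    Function.Injective (mapAlg k φ) := fun x y h =>
  MonoidAlgebra.coeff_injective (Finsupp.mapDomain_injective hφ
    (congrArg MonoidAlgebra.coeff h))

theorem of_mul_of_inv (g : G) (x : MonoidAlgebra k G) :
    MonoidAlgebra.of k G g * (MonoidAlgebra.of k G g⁻¹ * x) = x := by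
  rw [← mul_assoc, ← map_mul, mul_inv_cancel, map_one, one_mul]

theorem mul_of_comm_iff {g : G} {x : MonoidAlgebra k G} :
    MonoidAlgebra.of k G g * x * MonoidAlgebra.of k G g⁻¹ = x ↔
      MonoidAlgebra.of k G g * x = x * MonoidAlgebra.of k G g := by
  constructor
  · intro h
    conv_rhs => rw [← h]
    rw [mul_assoc, mul_assoc, ← map_mul, inv_mul_cancel, map_one, mul_one]
  · intro h
    rw [h, mul_assoc, ← map_mul, mul_inv_cancel, map_one, mul_one]

end Algebra

variable {G : Type u} [Group G] [Fintype G] {p : ℕ} {M : Ideal Cfsg.AlgInt}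

local notation "CG[" Q "]" => Subgroup.centralizer (SetLike.coe Q)
local notation "𝕜" => Cfsg.AlgInt ⧸ M

/-- The image of the centralizer of `D` in `G ⧸ D`. -/
noncomputable def centreHom (D : Subgroup G) [D.Normal] [(D.subgroupOf CG[D]).Normal] :
    CG[D] ⧸ D.subgroupOf CG[D] →* G ⧸ D :=
  QuotientGroup.map (D.subgroupOf CG[D]) D CG[D].subtype fun _ hz => hz

theorem centreHom_mk (D : Subgroup G) [D.Normal] [(D.subgroupOf CG[D]).Normal] (c : CG[D]) :
    centreHom D (c : CG[D] ⧸ D.subgroupOf CG[D]) = ((c : G) : G ⧸ D) := rfl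

theorem centreHom_injective (D : Subgroup G) [D.Normal] [(D.subgroupOf CG[D]).Normal] :
    Function.Injective (centreHom D) := by
  refine (injective_iff_map_eq_one _).2 fun q hq => ?_
  obtain ⟨c, rfl⟩ := QuotientGroup.mk_surjective q
  rw [centreHom_mk, QuotientGroup.eq_one_iff] at hq
  exact (QuotientGroup.eq_one_iff c).2 (Subgroup.mem_subgroupOf.2 hq)

/-- The idempotent of the pair, over the quotient by `D`. -/
noncomputable def topIdem [M.IsMaximal] (hM : Cfsg.IsPModular p M) (D : Subgroup G) [D.Normal]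
    (e : Set (Cfsg.IrrCharacter CG[D])) : MonoidAlgebra 𝕜 (G ⧸ D) :=
  mapAlg 𝕜 (QuotientGroup.mk' D) (eElt hM CG[D] e)

variable [M.IsMaximal] {D : Subgroup G} [D.Normal] {B : Set (Cfsg.IrrCharacter G)}
  {e : Set (Cfsg.IrrCharacter CG[D])}

theorem exists_topIdem_eq (hM : Cfsg.IsPModular p M)
    (hmax : Cfsg.IsMaximalBrauerPair p M B D e) [(D.subgroupOf CG[D]).Normal]
    [Fintype CG[D]] [Fintype (CG[D] ⧸ D.subgroupOf CG[D])] :
    ∃ θ : Cfsg.IrrCharacter (CG[D] ⧸ D.subgroupOf CG[D]),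
      Cfsg.IsPBlock M ({θ} : Set (Cfsg.IrrCharacter (CG[D] ⧸ D.subgroupOf CG[D]))) ∧
      topIdem hM D e = mapAlg 𝕜 (centreHom D) (bElt hM {θ}) := by
  classical
  haveI := Fact.mk hM.1
  have he := hmax.1.1.2
  obtain ⟨θ, hθ, hθs⟩ := inflSet_centre_eq hM hmax
  refine ⟨θ, hθs ▸ isPBlock_blockOf θ, ?_⟩
  have h1 : bElt hM ({θ} : Set (Cfsg.IrrCharacter (CG[D] ⧸ D.subgroupOf CG[D]))) =
      mapAlg 𝕜 (QuotientGroup.mk' (D.subgroupOf CG[D])) (bElt hM e) := by
    rw [bElt, bElt, mapAlg_res hM _ (memLocalRing_blockCoeff hM he), push_blockCoeff]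
    exact congrArg (fun s => res hM (Cfsg.blockCoeff s)) hθ.symm
  rw [h1, topIdem, ← emb_bElt hM (K := CG[D]), mapAlg_comp]
  refine (mapAlg_comp CG[D].subtype (QuotientGroup.mk' D) (bElt hM e)).trans ?_
  rfl

theorem topIdem_ne_zero (hM : Cfsg.IsPModular p M)
    (hmax : Cfsg.IsMaximalBrauerPair p M B D e) : topIdem hM D e ≠ 0 := by
  classical
  haveI : (D.subgroupOf CG[D]).Normal := normal_inter_centralizer D
  letI := Fintype.ofFinite CG[D]
  letI := Fintype.ofFinite (CG[D] ⧸ D.subgroupOf CG[D])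
  obtain ⟨θ, hθ, h⟩ := exists_topIdem_eq hM hmax
  intro h0
  exact bElt_ne_zero hM hθ (mapAlg_injective (centreHom_injective D) (by rw [← h, h0, map_zero]))

theorem topIdem_mul_self (hM : Cfsg.IsPModular p M)
    (hmax : Cfsg.IsMaximalBrauerPair p M B D e) :
    topIdem hM D e * topIdem hM D e = topIdem hM D e := by
  classical
  haveI : (D.subgroupOf CG[D]).Normal := normal_inter_centralizer D
  letI := Fintype.ofFinite CG[D]
  letI := Fintype.ofFinite (CG[D] ⧸ D.subgroupOf CG[D])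
  obtain ⟨θ, hθ, h⟩ := exists_topIdem_eq hM hmax
  rw [h, ← map_mul, bElt_idem hM hθ]

theorem topIdem_mul_bElt (hM : Cfsg.IsPModular p M)
    (hmax : Cfsg.IsMaximalBrauerPair p M B D e) [Fintype (G ⧸ D)] :
    topIdem hM D e * bElt hM (inflSet D B) = topIdem hM D e := by
  classical
  haveI := Fact.mk hM.1
  have he := hmax.1.1.2
  have hBR := memLocalRing_blockCoeff hM hmax.1.2.1
  have h2 : bElt hM (inflSet D B) = mapAlg 𝕜 (QuotientGroup.mk' D) (bElt hM B) := by
    rw [bElt, bElt, mapAlg_res hM D hBR, push_blockCoeff]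
  have h3 : bElt hM B * eElt hM CG[D] e = eElt hM CG[D] e := by
    rw [bElt, eElt, ← res_conv hM hBR (memLocalRing_sbc hM he), conv_blockCoeff_sbc hM hmax.1]
  rw [h2, topIdem, ← map_mul, ← bElt_central hM, h3]

theorem conj_topIdem (hM : Cfsg.IsPModular p M) (g : G) :
    MonoidAlgebra.of 𝕜 (G ⧸ D) (g : G ⧸ D) * topIdem hM D e *
      MonoidAlgebra.of 𝕜 (G ⧸ D) (g : G ⧸ D)⁻¹ =
      mapAlg 𝕜 (QuotientGroup.mk' D) (conjRep 𝕜 g (eElt hM CG[D] e)) := by
  rw [conjRep_apply, map_mul, map_mul, mapAlg_of, mapAlg_of]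
  rfl

theorem topIdem_fixed (hM : Cfsg.IsPModular p M) (he : Cfsg.IsPBlock M e) {g : G}
    (hg : Cfsg.StabilizesBlock CG[D] e g) :
    MonoidAlgebra.of 𝕜 (G ⧸ D) (g : G ⧸ D) * topIdem hM D e *
      MonoidAlgebra.of 𝕜 (G ⧸ D) (g : G ⧸ D)⁻¹ = topIdem hM D e := by
  have hN : g ∈ Subgroup.normalizer (D : Set G) := by
    rw [Subgroup.normalizer_eq_top]; trivial
  rw [conj_topIdem, topIdem]
  congr 1
  refine eElt_fixed hM (T := Subgroup.zpowers g) (fun u hu => ?_) g (Subgroup.mem_zpowers g)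
  have hle : Subgroup.zpowers g ≤ invSubgroup (Cfsg.subgroupBlockCoeff CG[D] e) :=
    Subgroup.zpowers_le.2 fun y => (stabilizesBlock_iff hM hN he).1 hg g rfl y
  exact fun y => hle hu y

theorem topIdem_orth (hM : Cfsg.IsPModular p M) (he : Cfsg.IsPBlock M e) {g : G}
    (hg : ¬ Cfsg.StabilizesBlock CG[D] e g) :
    topIdem hM D e * MonoidAlgebra.of 𝕜 (G ⧸ D) (g : G ⧸ D) * topIdem hM D e = 0 := by
  have hN : ∀ h : G, h ∈ Subgroup.normalizer (D : Set G) := fun h => by
    rw [Subgroup.normalizer_eq_top]; trivial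
  have hg' : ¬ Cfsg.StabilizesBlock CG[D] e g⁻¹ := fun h => hg (by
    have := (pairStab (⟨D, e⟩ : Cfsg.BrauerPairIdx G)).inv_mem
      ((mem_pairStab hM he g⁻¹).2 ⟨hN _, h⟩)
    rw [inv_inv] at this
    exact ((mem_pairStab hM he g).1 this).2)
  have h0 := congrArg (mapAlg 𝕜 (QuotientGroup.mk' D))
    (eElt_conj_mul_eq_zero hM he (hN g⁻¹) hg')
  rw [map_mul, map_zero, ← conj_topIdem, QuotientGroup.mk_inv, inv_inv] at h0
  calc topIdem hM D e * MonoidAlgebra.of 𝕜 (G ⧸ D) (g : G ⧸ D) * topIdem hM D e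
      = MonoidAlgebra.of 𝕜 (G ⧸ D) (g : G ⧸ D) * (MonoidAlgebra.of 𝕜 (G ⧸ D) (g : G ⧸ D)⁻¹ *
          topIdem hM D e * MonoidAlgebra.of 𝕜 (G ⧸ D) (g : G ⧸ D) * topIdem hM D e) := by
        simp only [mul_assoc]
        rw [of_mul_of_inv]
    _ = 0 := by
        rw [show MonoidAlgebra.of 𝕜 (G ⧸ D) (g : G ⧸ D)⁻¹ * topIdem hM D e *
          MonoidAlgebra.of 𝕜 (G ⧸ D) (g : G ⧸ D) * topIdem hM D e = 0 from h0, mul_zero]

end Cfsg.Agent.Blocks.NormalDefect
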